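import Groth.Agent.CalgC.DimFT
import Mathlib.RingTheory.Ideal.KrullsHeightTheorem

/-!
# Slices of an irreducible affine scheme of finite type over a field (helper479)

`exists_prime_slice`: in an irreducible affine scheme of finite type over a field, every component of the locus of
`s` equations through a given point has codimension at most `s`.
-/

set_option autoImplicit false

namespace K479.Slice

open Groth.Agent.CalgC.DimFT

theorem ringKrullDim_quotient_nilradical (A : Type*) [CommRing A] : ringKrullDim (A ⧸ nilradical A) = ringKrullDim A := by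
  rw [ringKrullDim_quotient]
  have h : PrimeSpectrum.zeroLocus (nilradical A : Set A) = Set.univ := by
    rw [Set.eq_univ_iff_forall]
    exact fun P => nilradical_le_prime P.asIdeal
  rw [h, ringKrullDim]
  exact Order.krullDim_eq_of_orderIso OrderIso.Set.univ

/-- The case of a domain. -/
theorem exists_prime_slice_of_isDomain (k : Type*) [Field k] {D : Type*} [CommRing D] [IsDomain D] [Algebra k D]
    [Algebra.FiniteType k D] (s : ℕ) (a : Fin s → D) (m : Ideal D) [m.IsPrime] (hm : ∀ i, a i ∈ m) :
    ∃ p : Ideal D, p.IsPrime ∧ p ≤ m ∧ (∀ i, a i ∈ p) ∧ ringKrullDim D ≤ ringKrullDim (D ⧸ p) + s := by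
  have hN : IsNoetherianRing D := Algebra.FiniteType.isNoetherianRing k D
  have hle : Ideal.span (Set.range a) ≤ m := Ideal.span_le.2 (by rintro _ ⟨i, rfl⟩; exact hm i)
  obtain ⟨p, hp, hpm⟩ := Ideal.exists_minimalPrimes_le hle
  have hpp : p.IsPrime := hp.1.1
  refine ⟨p, hpp, hpm, fun i => hp.1.2 (Ideal.subset_span ⟨i, rfl⟩), ?_⟩
  have h1 : p.height ≤ (Set.range a).ncard := Ideal.height_le_card_of_mem_minimalPrimes_span (Set.finite_range a) hp
  have h2 : (Set.range a).ncard ≤ s := by
    have := Set.ncard_image_le (f := a) (s := Set.univ) Set.finite_univ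
    rw [Set.image_univ, Set.ncard_univ, Nat.card_eq_fintype_card, Fintype.card_fin] at this
    exact this
  have h3 : p.height ≤ (s : ℕ∞) := h1.trans (by exact_mod_cast h2)
  rw [← height_add_ringKrullDim_quotient (k := k) D p, add_comm]
  exact add_le_add le_rfl (WithBot.coe_le_coe.2 h3)

/-- The general case. -/
theorem exists_prime_slice (k : Type*) [Field k] {A : Type*} [CommRing A] [Algebra k A] [Algebra.FiniteType k A]
    (h : IrreducibleSpace (PrimeSpectrum A)) (s : ℕ) (a : Fin s → A) (m : PrimeSpectrum A)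
    (hm : ∀ i, a i ∈ m.asIdeal) : ∃ p : PrimeSpectrum A, p ≤ m ∧ (∀ i, a i ∈ p.asIdeal) ∧
      ringKrullDim A ≤ ringKrullDim (A ⧸ p.asIdeal) + s := by
  have hN : (nilradical A).IsPrime := PrimeSpectrum.irreducibleSpace_iff_isPrime_nilradical.1 h
  set N := nilradical A with hNdef
  have hNm : N ≤ m.asIdeal := nilradical_le_prime _
  have hsurj : Function.Surjective (Ideal.Quotient.mk N) := Ideal.Quotient.mk_surjective
  have hm' : (m.asIdeal.map (Ideal.Quotient.mk N)).IsPrime :=
    Ideal.map_isPrime_of_surjective hsurj (by rwa [Ideal.mk_ker])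
  have hcm : (m.asIdeal.map (Ideal.Quotient.mk N)).comap (Ideal.Quotient.mk N) = m.asIdeal := by
    rw [Ideal.comap_map_of_surjective _ hsurj, ← RingHom.ker_eq_comap_bot, Ideal.mk_ker, sup_eq_left.2 hNm]
  obtain ⟨p, hp, hpm, hap, hdim⟩ := exists_prime_slice_of_isDomain k (D := A ⧸ N) s
    (fun i => Ideal.Quotient.mk N (a i)) (m.asIdeal.map (Ideal.Quotient.mk N))
    (fun i => Ideal.mem_map_of_mem _ (hm i))
  refine ⟨⟨p.comap (Ideal.Quotient.mk N), Ideal.comap_isPrime _ _⟩, ?_, fun i => hap i, ?_⟩
  · change p.comap (Ideal.Quotient.mk N) ≤ m.asIdeal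
    rw [← hcm]
    exact Ideal.comap_mono hpm
  · have h1 : ringKrullDim (A ⧸ N) = ringKrullDim A := ringKrullDim_quotient_nilradical A
    have h2 : RingHom.ker ((Ideal.Quotient.mk p).comp (Ideal.Quotient.mk N)) = p.comap (Ideal.Quotient.mk N) := by
      rw [← RingHom.comap_ker, Ideal.mk_ker]
    have e : A ⧸ p.comap (Ideal.Quotient.mk N) ≃+* (A ⧸ N) ⧸ p :=
      (Ideal.quotEquivOfEq h2.symm).trans (RingHom.quotientKerEquivOfSurjective
        (Ideal.Quotient.mk_surjective.comp Ideal.Quotient.mk_surjective))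
    change _ ≤ ringKrullDim (A ⧸ p.comap (Ideal.Quotient.mk N)) + s
    rw [ringKrullDim_eq_of_ringEquiv e, ← h1]
    exact hdim

end K479.Slice
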