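import Groth.Agent.Fano.K314.HonHR
import Groth.Agent.Fano.K479.Slice
import Groth.Agent.FBase.K106.Dim

/-!
# Slices of the scheme of maps from the projective line to a hypersurface (S16940, node HD4; helper479)
-/

set_option autoImplicit false

universe u

open CategoryTheory CategoryTheory.Limits AlgebraicGeometry TensorProduct

namespace K479.HonSlice

open K239.HonDef K314.HonHR

variable {k : Type u} [Field k] {n : ℕ} (G : MvPolynomial (Fin (n + 1)) k) (d e : ℕ)

instance finiteType_HR (R : Type u) [CommRing R] [Algebra k R] : Algebra.FiniteType R (HR G d e R) :=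
  Algebra.FiniteType.of_surjective (Ideal.Quotient.mkₐ R _) (Ideal.Quotient.mkₐ_surjective R _)

theorem finiteType_HR' (R : Type u) [CommRing R] [Algebra k R] [Algebra.FiniteType k R] :
    Algebra.FiniteType k (HR G d e R) :=
  Algebra.FiniteType.trans (S := R) inferInstance inferInstance

/-- The dimension of `HR G d e R`. -/
theorem ringKrullDim_HR (R : Type u) [CommRing R] [Algebra k R] [Algebra.FiniteType k R] :
    ringKrullDim (HR G d e R) = ringKrullDim R + ringKrullDim (HR G d e k) := by
  obtain ⟨E⟩ := nonempty_algEquiv G d e R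
  have h : ringKrullDim (R ⊗[k] HR G d e k) = ringKrullDim (HR G d e R) :=
    ringKrullDim_eq_of_ringEquiv (E.toRingEquiv : R ⊗[k] HR G d e k ≃+* HR G d e R)
  rw [← h, K106.Dim.ringKrullDim_tensor]

/-- Node HD4: each component of a closed subset of `Spec (HR G d e R)` given by `s` equations has dimension at least `dim - s`. -/
theorem exists_prime_slice [IsAlgClosed k] (R : Type u) [CommRing R] [IsDomain R] [Algebra k R] [Algebra.FiniteType k R]
    (h : IrreducibleSpace (PrimeSpectrum (HR G d e k))) (s : ℕ) (a : Fin s → HR G d e R) (m : PrimeSpectrum (HR G d e R))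
    (hm : ∀ i, a i ∈ m.asIdeal) : ∃ p : PrimeSpectrum (HR G d e R), p ≤ m ∧ (∀ i, a i ∈ p.asIdeal) ∧
      ringKrullDim R + ringKrullDim (HR G d e k) ≤ ringKrullDim (HR G d e R ⧸ p.asIdeal) + s := by
  have := finiteType_HR' G d e R
  rw [← ringKrullDim_HR]
  exact K479.Slice.exists_prime_slice k (irreducibleSpace_HR G d e R h) s a m hm

end K479.HonSlice
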