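import Groth.Agent.Fano.K479.ArcLim

/-!
# The dimension of the space of arcs on a cone (helper479)

`arcSet G p e`: the set of all `a ∈ (k^N)^e` such that `G(p + t a_1 + … + t^e a_e) = 0` for all `t`.
`main`: if through every point of the cone `G = 0` except the vertex the lines on the cone have codimension at least
`d = deg G`, and `2 d ≤ dim N`, then `arcSet G p e` has codimension at least `d e` for every `p ≠ 0` on the cone.
-/

set_option autoImplicit false

universe u

namespace K479.ArcDim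

open MvPolynomial Groth.Agent.CalgC.DimFT K479.ArcLim K714.DimMv

variable {k : Type u} [Field k]

/-! ### Heights in quotients of polynomial rings -/

theorem height_add_le {κ : Type} [Finite κ] {S' : Type u} [CommRing S'] (φ : MvPolynomial κ k →+* S')
    (hφ : Function.Surjective φ) {J : Ideal (MvPolynomial κ k)} (hJ : J ≤ RingHom.ker φ) {c : ℕ}
    (hc : (c : ℕ∞) ≤ J.height) (M : Ideal S') [hM : M.IsPrime] : M.height + c ≤ Nat.card κ := by
  have hdim : ringKrullDim (MvPolynomial κ k) = Nat.card κ := by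
    rw [ringKrullDim_eq_of_ringEquiv (renameEquiv k (Finite.equivFin κ)).toRingEquiv, ringKrullDim_mvPolynomial_fin]
  rw [PrimeSpectrum.height_eq_orderHeight (⟨M, hM⟩ : PrimeSpectrum S')]
  have key : ∀ l : LTSeries (PrimeSpectrum S'), l.length + c ≤ Nat.card κ := by
    intro l
    let l' : LTSeries (PrimeSpectrum (MvPolynomial κ k)) :=
      l.map (PrimeSpectrum.comap φ) (RingHom.strictMono_comap_of_surjective hφ)
    have h1 : J ≤ l'.head.asIdeal := by
      intro x hx
      change x ∈ (PrimeSpectrum.comap φ l.head).asIdeal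
      rw [PrimeSpectrum.comap_asIdeal, Ideal.mem_comap, RingHom.mem_ker.1 (hJ hx)]
      exact zero_mem _
    have h2 : (c : ℕ∞) ≤ Order.height l'.head := by
      rw [← PrimeSpectrum.height_eq_orderHeight]
      exact hc.trans (Ideal.height_mono h1)
    obtain ⟨q, hq, hql⟩ := Order.exists_series_of_le_height _ h2
    have h3 := Order.LTSeries.length_le_krullDim (q.smash l' hq)
    have h4 : (q.smash l' hq).length = c + l.length := by
      rw [RelSeries.smash_length, hql]
      rfl
    change _ ≤ ringKrullDim (MvPolynomial κ k) at h3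
    rw [h4, hdim] at h3
    have h5 : c + l.length ≤ Nat.card κ := by exact_mod_cast h3
    omega
  have hh : Order.height (⟨M, hM⟩ : PrimeSpectrum S') ≤ (Nat.card κ - c : ℕ) := by
    refine Order.height_le fun p _ => ?_
    have := key p
    exact_mod_cast (by omega : p.length ≤ Nat.card κ - c)
  have hc' : c ≤ Nat.card κ := by
    have := key (RelSeries.singleton _ ⟨M, hM⟩)
    simp only [RelSeries.singleton_length] at this
    omega
  calc Order.height (⟨M, hM⟩ : PrimeSpectrum S') + c ≤ (Nat.card κ - c : ℕ) + c := by gcongr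
    _ = Nat.card κ := by exact_mod_cast Nat.sub_add_cancel hc'

theorem height_radical {R : Type*} [CommRing R] (I : Ideal R) : I.radical.height = I.height := by
  rw [Ideal.height_eq_inf_minimalPrimes, Ideal.height_eq_inf_minimalPrimes, Ideal.radical_minimalPrimes]

theorem dim_add_le {κ : Type} [Finite κ] {R₀ S : Type u} [CommRing R₀] [IsDomain R₀] [Algebra k R₀]
    [Algebra.FiniteType k R₀] [CommRing S] [IsDomain S] [Algebra k S] [Algebra.FiniteType k S] (f : R₀ →+* S)
    (evP : S →+* k) (hev : Function.Surjective evP) (hev' : Function.Surjective (evP.comp f))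
    (φ : MvPolynomial κ k →+* S ⧸ (RingHom.ker (evP.comp f)).map f) (hφ : Function.Surjective φ)
    {J : Ideal (MvPolynomial κ k)} (hJ : J ≤ RingHom.ker φ) {c : ℕ} (hc : (c : ℕ∞) ≤ J.height) {d d₀ : ℕ}
    (hd : ringKrullDim S = d) (hd₀ : ringKrullDim R₀ = d₀) : d + c ≤ d₀ + Nat.card κ := by
  let _ : Algebra R₀ S := f.toAlgebra
  have hm : (RingHom.ker evP).IsMaximal := RingHom.ker_isMaximal_of_surjective evP hev
  have hn : (RingHom.ker (evP.comp f)).IsMaximal := RingHom.ker_isMaximal_of_surjective _ hev'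
  have hlies : (RingHom.ker evP).LiesOver (RingHom.ker (evP.comp f)) := ⟨rfl⟩
  have hnoeth : IsNoetherianRing S := Algebra.FiniteType.isNoetherianRing k S
  have hnoeth' : IsNoetherianRing R₀ := Algebra.FiniteType.isNoetherianRing k R₀
  have hH := Ideal.height_le_height_add_of_liesOver (RingHom.ker (evP.comp f)) (RingHom.ker evP)
  have hker : RingHom.ker (Ideal.Quotient.mk ((RingHom.ker (evP.comp f)).map f)) ≤ RingHom.ker evP := by
    rw [Ideal.mk_ker, Ideal.map_le_iff_le_comap]
    exact le_rfl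
  have hprime : ((RingHom.ker evP).map (Ideal.Quotient.mk ((RingHom.ker (evP.comp f)).map f))).IsPrime :=
    Ideal.map_isPrime_of_surjective Ideal.Quotient.mk_surjective hker
  have hF := height_add_le φ hφ hJ hc ((RingHom.ker evP).map (Ideal.Quotient.mk ((RingHom.ker (evP.comp f)).map f)))
  have e1 : (RingHom.ker evP).height = (d : ℕ∞) := by
    have := height_eq_ringKrullDim_of_isMaximal k S (RingHom.ker evP)
    rw [hd] at this
    exact_mod_cast this
  have e2 : (RingHom.ker (evP.comp f)).height = (d₀ : ℕ∞) := by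
    have := height_eq_ringKrullDim_of_isMaximal k R₀ (RingHom.ker (evP.comp f))
    rw [hd₀] at this
    exact_mod_cast this
  rw [e1, e2] at hH
  have f3 : (d : ℕ∞) + c ≤ d₀ + Nat.card κ := by
    refine (add_le_add_left hH _).trans ?_
    rw [add_assoc]
    exact add_le_add_right hF _
  exact_mod_cast f3

theorem c_le_height_slice [IsAlgClosed k] {ι κ : Type} [Finite ι] [Finite κ] (P : Ideal (MvPolynomial (ι ⊕ κ) k))
    {v : ι → k} {c : ℕ} (h2 : Cd {w' : κ → k | Sum.elim v w' ∈ zeroLocus k P} c) :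
    (c : ℕ∞) ≤ (P.map (slice (τ := κ) v).toRingHom).height := by
  rw [← height_radical, ← vanishingIdeal_zeroLocus_eq_radical (K := k)]
  refine h2.trans (Ideal.height_mono (vanishingIdeal_anti_mono ?_))
  intro w' hw'
  change Sum.elim v w' ∈ zeroLocus k P
  rw [mem_zeroLocus_iff]
  intro p hp
  rw [aeval_eq_eval, ← eval_slice]
  have := (mem_zeroLocus_iff.1 hw') _ (Ideal.mem_map_of_mem (slice (τ := κ) v).toRingHom hp)
  rwa [aeval_eq_eval] at this

/-- **Additivity.**  A prime of `k[ι ⊕ κ]`: codimension of the image plus codimension of a fibre. -/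
theorem add_le_height [IsAlgClosed k] {ι κ : Type} [Finite ι] [Finite κ] (P : Ideal (MvPolynomial (ι ⊕ κ) k))
    [hP : P.IsPrime] {v : ι → k} {w : κ → k} (h : Sum.elim v w ∈ zeroLocus k P) {c₁ c₂ : ℕ}
    (h1 : (c₁ : ℕ∞) ≤ (P.comap (rename (R := k) Sum.inl).toRingHom).height)
    (h2 : Cd {w' : κ → k | Sum.elim v w' ∈ zeroLocus k P} c₂) : ((c₁ + c₂ : ℕ) : ℕ∞) ≤ P.height := by
  have hP₀ : (P.comap (rename (R := k) Sum.inl).toRingHom : Ideal (MvPolynomial ι k)).IsPrime := Ideal.comap_isPrime _ _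
  obtain ⟨d, hh, hd, -, hPh, hs⟩ := exists_nat_dim P
  obtain ⟨d₀, hh₀, hd₀, -, hPh₀, hs₀⟩ := exists_nat_dim (P.comap (rename (R := k) Sum.inl).toRingHom)
  set P₀ : Ideal (MvPolynomial ι k) := P.comap (rename (R := k) Sum.inl).toRingHom with hP₀def
  let f : MvPolynomial ι k ⧸ P₀ →+* MvPolynomial (ι ⊕ κ) k ⧸ P :=
    Ideal.quotientMap P (rename (R := k) Sum.inl).toRingHom le_rfl
  have hf : ∀ g : MvPolynomial ι k, f (Ideal.Quotient.mk P₀ g) = Ideal.Quotient.mk P (rename Sum.inl g) := fun _ => rfl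
  let evP : MvPolynomial (ι ⊕ κ) k ⧸ P →+* k := Ideal.Quotient.lift P (MvPolynomial.eval (Sum.elim v w)) fun a ha => by
    have := (mem_zeroLocus_iff.1 h) a ha
    rwa [aeval_eq_eval] at this
  have hevP : ∀ g, evP (Ideal.Quotient.mk P g) = MvPolynomial.eval (Sum.elim v w) g := fun _ => rfl
  have hev : Function.Surjective evP := fun c => ⟨Ideal.Quotient.mk P (C c), by rw [hevP]; simp⟩
  have hev' : Function.Surjective (evP.comp f) :=
    fun c => ⟨Ideal.Quotient.mk P₀ (C c), by rw [RingHom.comp_apply, hf, hevP]; simp⟩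
  let φ : MvPolynomial κ k →+* (MvPolynomial (ι ⊕ κ) k ⧸ P) ⧸ (RingHom.ker (evP.comp f)).map f :=
    (Ideal.Quotient.mk _).comp ((Ideal.Quotient.mk P).comp (rename (R := k) Sum.inr).toRingHom)
  have hX : ∀ i : ι, Ideal.Quotient.mk ((RingHom.ker (evP.comp f)).map f)
      (Ideal.Quotient.mk P (X (Sum.inl i) - C (v i))) = 0 := by
    intro i
    rw [Ideal.Quotient.eq_zero_iff_mem]
    have h3 : Ideal.Quotient.mk P (X (Sum.inl i) - C (v i)) = f (Ideal.Quotient.mk P₀ (X i - C (v i))) := by
      rw [hf]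
      simp
    rw [h3]
    refine Ideal.mem_map_of_mem _ ?_
    rw [RingHom.mem_ker, RingHom.comp_apply, ← h3, hevP]
    simp
  have hslice : ∀ p : MvPolynomial (ι ⊕ κ) k, φ (slice v p) =
      Ideal.Quotient.mk ((RingHom.ker (evP.comp f)).map f) (Ideal.Quotient.mk P p) := by
    intro p
    have h3 : Ideal.span (Set.range fun i : ι => (X (Sum.inl i) : MvPolynomial (ι ⊕ κ) k) - C (v i)) ≤
        RingHom.ker ((Ideal.Quotient.mk ((RingHom.ker (evP.comp f)).map f)).comp (Ideal.Quotient.mk P)) := by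
      rw [Ideal.span_le]
      rintro _ ⟨i, rfl⟩
      exact hX i
    have h4 := h3 (sub_mem_span v p)
    rw [RingHom.mem_ker, map_sub, sub_eq_zero] at h4
    exact h4.symm
  have hφs : Function.Surjective φ := by
    intro y
    obtain ⟨y, rfl⟩ := Ideal.Quotient.mk_surjective y
    obtain ⟨p, rfl⟩ := Ideal.Quotient.mk_surjective y
    exact ⟨slice v p, hslice p⟩
  have hJ : P.map (slice (τ := κ) v).toRingHom ≤ RingHom.ker φ := by
    rw [Ideal.map_le_iff_le_comap]
    intro p hp
    rw [Ideal.mem_comap, RingHom.mem_ker]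
    change φ (slice v p) = 0
    rw [hslice, Ideal.Quotient.eq_zero_iff_mem.2 hp, map_zero]
  have hfin := dim_add_le f evP hev hev' φ hφs hJ (c_le_height_slice P h2) hd hd₀
  rw [hPh₀] at h1
  rw [hPh]
  have f1 : c₁ ≤ hh₀ := by exact_mod_cast h1
  have f2 : Nat.card (ι ⊕ κ) = Nat.card ι + Nat.card κ := Nat.card_sum
  have f5 : c₁ + c₂ ≤ hh := by omega
  exact_mod_cast f5

/-! ### Codimension of sets of points -/

theorem cd_mono {σ : Type} {Y Z : Set (σ → k)} (h : Y ⊆ Z) {c : ℕ} (hZ : Cd Z c) : Cd Y c :=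
  le_trans hZ (Ideal.height_mono (vanishingIdeal_anti_mono h))

theorem cd_anti {σ : Type} {Y : Set (σ → k)} {c c' : ℕ} (h : c ≤ c') (hY : Cd Y c') : Cd Y c :=
  le_trans (by exact_mod_cast h) hY

theorem cd_zero {σ : Type} (Y : Set (σ → k)) : Cd Y 0 := by simp [Cd]

theorem cd_reindex {σ τ : Type} (ε : σ ≃ τ) {Y : Set (σ → k)} {c : ℕ} (h : Cd Y c) :
    Cd {y : τ → k | (fun i => y (ε i)) ∈ Y} c := by
  rw [Cd] at h ⊢
  have e : vanishingIdeal k Y = (vanishingIdeal k {y : τ → k | (fun i => y (ε i)) ∈ Y}).comap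
      (renameEquiv k ε).toRingEquiv := by
    ext g
    rw [Ideal.mem_comap, mem_vanishingIdeal_iff, mem_vanishingIdeal_iff]
    constructor
    · intro hg y hy
      have := hg _ hy
      rw [aeval_eq_eval] at this ⊢
      change MvPolynomial.eval y (rename ε g) = 0
      rw [eval_rename]
      exact this
    · intro hg x hx
      have h1 := hg (fun j => x (ε.symm j)) (by
        change (fun i => x (ε.symm (ε i))) ∈ Y
        simpa using hx)
      rw [aeval_eq_eval] at h1 ⊢
      change MvPolynomial.eval _ (rename ε g) = 0 at h1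
      rw [eval_rename] at h1
      have e2 : (fun j => x (ε.symm j)) ∘ ε = x := by ext i; simp
      rwa [e2] at h1
  rwa [e, RingEquiv.height_comap] at h

/-- The origin. -/
theorem cd_singleton_zero {κ : Type} [Finite κ] : Cd ({0} : Set (κ → k)) (Nat.card κ) := by
  have h : Cd ({0} : Set (Fin (Nat.card κ) → k)) (Nat.card κ) := by
    rw [Cd]
    rw [height_mvPolynomial_isMaximal]
  refine cd_mono ?_ (cd_reindex (Finite.equivFin κ).symm h)
  rintro _ rfl
  rfl

/-- Additivity for sets: codimension of the base plus codimension of the fibres. -/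
theorem cd_of_fibres [IsAlgClosed k] {ι κ : Type} [Finite ι] [Finite κ] {Z : Set (ι ⊕ κ → k)}
    (hZ : ∀ x, x ∈ zeroLocus k (vanishingIdeal k Z) → x ∈ Z) {B : Set (ι → k)}
    (hB : ∀ x ∈ Z, (fun i => x (Sum.inl i)) ∈ B) {c₁ c₂ : ℕ} (h1 : Cd B c₁)
    (h2 : ∀ v ∈ B, Cd {w : κ → k | Sum.elim v w ∈ Z} c₂) : Cd Z (c₁ + c₂) := by
  rw [Cd, K714.Codim.le_height_iff]
  intro P hP hle
  obtain ⟨x, hx⟩ := K714.Codim.exists_mem_zeroLocus P
  have hxe : Sum.elim (fun i => x (Sum.inl i)) (fun j => x (Sum.inr j)) = x := Sum.elim_comp_inl_inr x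
  have hsub : ∀ y, y ∈ zeroLocus k P → y ∈ Z := fun y hy => hZ y (zeroLocus_anti_mono hle hy)
  refine add_le_height P (v := fun i => x (Sum.inl i)) (w := fun j => x (Sum.inr j)) (by rwa [hxe]) ?_ ?_
  · refine le_trans h1 (Ideal.height_mono ?_)
    intro g hg
    refine hle ?_
    rw [mem_vanishingIdeal_iff] at hg ⊢
    intro y hy
    have := hg _ (hB y hy)
    rw [aeval_eq_eval] at this ⊢
    change MvPolynomial.eval y (rename Sum.inl g) = 0
    rw [eval_rename]
    exact this
  · have h3 : Cd {w' : κ → k | Sum.elim (fun i => x (Sum.inl i)) w' ∈ zeroLocus k P} c₂ :=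
      cd_mono (Z := {w' : κ → k | Sum.elim (fun i => x (Sum.inl i)) w' ∈ Z}) (fun w hw => hsub _ hw)
        (h2 _ (hB x (hsub x hx)))
    exact h3

end K479.ArcDim
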