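import Groth.Agent.Fano.K714.Codim
import Mathlib.RingTheory.KrullDimension.Polynomial

/-!
# Limits of weighted cones (helper479)

Let `Y ⊆ k^ι × k^κ` be a cone for positive weights (`w` on `ι`, `m` on `κ`).  The limit set of `Y` is the fibre over
`t = 0` of the closure of `{(a, t, q) : t ≠ 0, (a, t q) ∈ Y}`.  Its codimension in `k^ι × k^κ` is at most the codimension
of `Y` (`Cd.of_limit`).
-/

set_option autoImplicit false

universe u

namespace K479.ArcLim

open MvPolynomial Groth.Agent.CalgC.DimFT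

variable {k : Type u} [Field k]

/-- Codimension of a set of points of an affine space. -/
def Cd {σ : Type} (Y : Set (σ → k)) (c : ℕ) : Prop := (c : ℕ∞) ≤ (vanishingIdeal k Y).height

section cone

variable {σ : Type} (w : σ → ℕ)

/-- The scaled polynomial `g(s^w x)`, as a polynomial in `s`. -/
noncomputable def scal : MvPolynomial σ k →ₐ[k] Polynomial (MvPolynomial σ k) :=
  MvPolynomial.aeval fun i => Polynomial.C (MvPolynomial.X i) * Polynomial.X ^ w i

/-- The action of scalars. -/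
def act (s : k) (x : σ → k) : σ → k := fun i => x i * s ^ w i

theorem eval_scal (s : k) (x : σ → k) (g : MvPolynomial σ k) :
    ((scal w g).map (MvPolynomial.eval x)).eval s = MvPolynomial.eval (act w s x) g := by
  induction g using MvPolynomial.induction_on with
  | C a => simp [scal]
  | add p q hp hq => simp only [map_add, Polynomial.map_add, Polynomial.eval_add, hp, hq]
  | mul_X p i hp =>
    simp only [map_mul, Polynomial.map_mul, Polynomial.eval_mul, hp, MvPolynomial.eval_X]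
    congr 1
    simp [scal, act]

theorem eval_one_scal (g : MvPolynomial σ k) : (scal w g).eval 1 = g := by
  induction g using MvPolynomial.induction_on with
  | C a => simp [scal]
  | add p q hp hq => simp only [map_add, Polynomial.eval_add, hp, hq]
  | mul_X p i hp =>
    simp only [map_mul, Polynomial.eval_mul, hp]
    congr 1
    simp [scal]

/-- Components of cones are cones. -/
theorem act_mem_of_minimalPrimes [Infinite k] {Y : Set (σ → k)} (hY : ∀ (s : k) (x : σ → k), x ∈ Y → act w s x ∈ Y)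
    {P : Ideal (MvPolynomial σ k)} (hP : P ∈ (vanishingIdeal k Y).minimalPrimes) (s : k) {x : σ → k}
    (hx : x ∈ zeroLocus k P) : act w s x ∈ zeroLocus k P := by
  have hPp : P.IsPrime := hP.1.1
  let φ : MvPolynomial σ k →+* Polynomial (MvPolynomial σ k ⧸ P) :=
    (Polynomial.mapRingHom (Ideal.Quotient.mk P)).comp (scal w).toRingHom
  have hφ : ∀ g, φ g = (scal w g).map (Ideal.Quotient.mk P) := fun _ => rfl
  have h1 : vanishingIdeal k Y ≤ RingHom.ker φ := by
    intro g hg
    rw [RingHom.mem_ker, hφ]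
    ext m
    rw [Polynomial.coeff_map, Polynomial.coeff_zero, Ideal.Quotient.eq_zero_iff_mem]
    apply hP.1.2
    rw [mem_vanishingIdeal_iff]
    intro y hy
    rw [aeval_eq_eval]
    have h2 : (scal w g).map (MvPolynomial.eval y) = 0 := by
      refine Polynomial.funext fun t => ?_
      rw [eval_scal, Polynomial.eval_zero]
      have := (mem_vanishingIdeal_iff.1 hg) _ (hY t y hy)
      rwa [aeval_eq_eval] at this
    have h3 := congrArg (fun q => Polynomial.coeff q m) h2
    simpa using h3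
  have h2 : RingHom.ker φ ≤ P := by
    intro g hg
    rw [RingHom.mem_ker, hφ] at hg
    have h3 := congrArg (Polynomial.eval 1) hg
    rw [Polynomial.eval_zero, ← map_one (Ideal.Quotient.mk P), Polynomial.eval_map_apply, eval_one_scal,
      Ideal.Quotient.eq_zero_iff_mem] at h3
    exact h3
  have h3 : P ≤ RingHom.ker φ := hP.2 ⟨RingHom.ker_isPrime φ, h1⟩ h2
  rw [mem_zeroLocus_iff]
  intro g hg
  rw [aeval_eq_eval, ← eval_scal]
  have h4 : (scal w g).map (MvPolynomial.eval x) = 0 := by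
    ext m
    rw [Polynomial.coeff_map, Polynomial.coeff_zero]
    have h5 := h3 hg
    rw [RingHom.mem_ker, hφ] at h5
    have h6 := congrArg (fun q => Polynomial.coeff q m) h5
    simp only [Polynomial.coeff_map, Polynomial.coeff_zero, Ideal.Quotient.eq_zero_iff_mem] at h6
    have := (mem_zeroLocus_iff.1 hx) _ h6
    rwa [aeval_eq_eval] at this
  rw [h4, Polynomial.eval_zero]

end cone

section limit

variable {ι κ : Type}

/-- `(a, q) ↦ (a, t q)`. -/
def sc (t : k) (x : ι ⊕ κ → k) : ι ⊕ κ → k := Sum.elim (fun i => x (Sum.inl i)) fun j => t * x (Sum.inr j)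

/-- Evaluation at `(t, x)`. -/
noncomputable def ev (t : k) (x : ι ⊕ κ → k) : Polynomial (MvPolynomial (ι ⊕ κ) k) →+* k :=
  Polynomial.eval₂RingHom (MvPolynomial.eval x) t

theorem ev_eq (t : k) (x : ι ⊕ κ → k) (f : Polynomial (MvPolynomial (ι ⊕ κ) k)) :
    ev t x f = (f.map (MvPolynomial.eval x)).eval t := by
  rw [Polynomial.eval_map]
  rfl

theorem ev_C (t : k) (x : ι ⊕ κ → k) (a : MvPolynomial (ι ⊕ κ) k) :
    ev t x (Polynomial.C a) = MvPolynomial.eval x a := Polynomial.eval₂_C _ _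

theorem ev_X (t : k) (x : ι ⊕ κ → k) : ev t x (Polynomial.X) = t := Polynomial.eval₂_X _ _

/-- `(a, b) ↦ (a, t b)` on polynomials. -/
noncomputable def blow : MvPolynomial (ι ⊕ κ) k →ₐ[k] Polynomial (MvPolynomial (ι ⊕ κ) k) :=
  MvPolynomial.aeval (Sum.elim (fun i => Polynomial.C (X (Sum.inl i)))
    fun j => Polynomial.X * Polynomial.C (X (Sum.inr j)))

/-- `(t, a, b) ↦ (t, a, t b)` on polynomials. -/
noncomputable def Θ : Polynomial (MvPolynomial (ι ⊕ κ) k) →+* Polynomial (MvPolynomial (ι ⊕ κ) k) :=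
  Polynomial.eval₂RingHom blow.toRingHom Polynomial.X

theorem Θ_X : Θ (Polynomial.X : Polynomial (MvPolynomial (ι ⊕ κ) k)) = Polynomial.X := Polynomial.eval₂_X _ _

theorem Θ_C (a : MvPolynomial (ι ⊕ κ) k) : Θ (Polynomial.C a) = blow a := Polynomial.eval₂_C _ _

theorem ev_blow (t : k) (x : ι ⊕ κ → k) (a : MvPolynomial (ι ⊕ κ) k) :
    ev t x (blow a) = MvPolynomial.eval (sc t x) a := by
  induction a using MvPolynomial.induction_on with
  | C a => simp [blow, ev]
  | add p q hp hq => simp only [map_add, hp, hq]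
  | mul_X p i hp =>
    simp only [map_mul, hp, MvPolynomial.eval_X]
    congr 1
    rcases i with i | j
    · simp [blow, sc, ev]
    · simp only [blow, aeval_X, Sum.elim_inr, map_mul, ev_X, ev_C, eval_X, sc]

theorem ev_Θ (t : k) (x : ι ⊕ κ → k) (F : Polynomial (MvPolynomial (ι ⊕ κ) k)) :
    ev t x (Θ F) = ev t (sc t x) F := by
  induction F using Polynomial.induction_on' with
  | add p q hp hq => simp only [map_add, hp, hq]
  | monomial n a =>
    rw [← Polynomial.C_mul_X_pow_eq_monomial, map_mul, map_mul, map_mul, map_pow, map_pow, map_pow, Θ_C, Θ_X, ev_blow,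
      ev_C, ev_X, ev_X]

/-- Denominators can be cleared. -/
theorem exists_clear (f : Polynomial (MvPolynomial (ι ⊕ κ) k)) :
    ∃ (N : ℕ) (F : Polynomial (MvPolynomial (ι ⊕ κ) k)), Polynomial.X ^ N * f = Θ F := by
  have hadd : ∀ f g : Polynomial (MvPolynomial (ι ⊕ κ) k),
      (∃ (N : ℕ) (F : Polynomial (MvPolynomial (ι ⊕ κ) k)), Polynomial.X ^ N * f = Θ F) →
      (∃ (N : ℕ) (F : Polynomial (MvPolynomial (ι ⊕ κ) k)), Polynomial.X ^ N * g = Θ F) →
      ∃ (N : ℕ) (F : Polynomial (MvPolynomial (ι ⊕ κ) k)), Polynomial.X ^ N * (f + g) = Θ F := by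
    rintro f g ⟨N, F, hF⟩ ⟨M, G, hG⟩
    refine ⟨N + M, Polynomial.X ^ M * F + Polynomial.X ^ N * G, ?_⟩
    rw [map_add, map_mul, map_mul, map_pow, map_pow, Θ_X, ← hF, ← hG]
    ring
  have hmul : ∀ f g : Polynomial (MvPolynomial (ι ⊕ κ) k),
      (∃ (N : ℕ) (F : Polynomial (MvPolynomial (ι ⊕ κ) k)), Polynomial.X ^ N * f = Θ F) →
      (∃ (N : ℕ) (F : Polynomial (MvPolynomial (ι ⊕ κ) k)), Polynomial.X ^ N * g = Θ F) →
      ∃ (N : ℕ) (F : Polynomial (MvPolynomial (ι ⊕ κ) k)), Polynomial.X ^ N * (f * g) = Θ F := by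
    rintro f g ⟨N, F, hF⟩ ⟨M, G, hG⟩
    refine ⟨N + M, F * G, ?_⟩
    rw [map_mul, ← hF, ← hG]
    ring
  have hC : ∀ a : MvPolynomial (ι ⊕ κ) k,
      ∃ (N : ℕ) (F : Polynomial (MvPolynomial (ι ⊕ κ) k)), Polynomial.X ^ N * (Polynomial.C a) = Θ F := by
    intro a
    induction a using MvPolynomial.induction_on with
    | C a =>
      refine ⟨0, Polynomial.C (C a), ?_⟩
      rw [Θ_C]
      simp [blow]
    | add p q hp hq => rw [Polynomial.C_add]; exact hadd _ _ hp hq
    | mul_X p i hp =>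
      rw [Polynomial.C_mul]
      refine hmul _ _ hp ?_
      rcases i with i | j
      · refine ⟨0, Polynomial.C (X (Sum.inl i)), ?_⟩
        rw [Θ_C]
        simp [blow]
      · refine ⟨1, Polynomial.C (X (Sum.inr j)), ?_⟩
        rw [Θ_C]
        simp [blow]
  induction f using Polynomial.induction_on' with
  | add p q hp hq => exact hadd _ _ hp hq
  | monomial n a =>
    rw [← Polynomial.C_mul_X_pow_eq_monomial]
    exact hmul _ _ (hC a) ⟨0, Polynomial.X ^ n, by rw [map_pow, Θ_X]; simp⟩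

variable {B : Type u} [CommRing B] [IsDomain B] (π : MvPolynomial (ι ⊕ κ) k →+* B)

/-- The coordinate on the line. -/
noncomputable def TT (B : Type u) [CommRing B] [IsDomain B] : FractionRing (Polynomial B) :=
  algebraMap (Polynomial B) (FractionRing (Polynomial B)) Polynomial.X

theorem TT_ne_zero : TT B ≠ 0 := by
  rw [TT, Ne, FaithfulSMul.algebraMap_eq_zero_iff]
  exact Polynomial.X_ne_zero

/-- The coordinates `(a, b)`. -/
noncomputable def cc : MvPolynomial (ι ⊕ κ) k →+* FractionRing (Polynomial B) :=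
  (algebraMap (Polynomial B) (FractionRing (Polynomial B))).comp (Polynomial.C.comp π)

/-- Evaluation at the generic point `(t, a, b / t)`. -/
noncomputable def Ψ : Polynomial (MvPolynomial (ι ⊕ κ) k) →+* FractionRing (Polynomial B) :=
  Polynomial.eval₂RingHom (MvPolynomial.eval₂Hom ((cc π).comp MvPolynomial.C)
    (Sum.elim (fun i => cc π (X (Sum.inl i))) fun j => (TT B)⁻¹ * cc π (X (Sum.inr j)))) (TT B)

theorem Ψ_X : Ψ π Polynomial.X = TT B := Polynomial.eval₂_X _ _

theorem Ψ_blow (a : MvPolynomial (ι ⊕ κ) k) : Ψ π (blow a) = cc π a := by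
  induction a using MvPolynomial.induction_on with
  | C a => simp [blow, Ψ]
  | add p q hp hq => rw [map_add, map_add, map_add, hp, hq]
  | mul_X p i hp =>
    rw [map_mul, map_mul, map_mul, hp]
    congr 1
    rcases i with i | j
    · simp [blow, Ψ]
    · simp only [blow, aeval_X, Sum.elim_inr, map_mul, Ψ_X]
      have h2 : Ψ π (Polynomial.C (X (Sum.inr j))) = (TT B)⁻¹ * cc π (X (Sum.inr j)) := by
        simp [Ψ]
      rw [h2, mul_inv_cancel_left₀ TT_ne_zero]

theorem Ψ_Θ (F : Polynomial (MvPolynomial (ι ⊕ κ) k)) :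
    Ψ π (Θ F) = algebraMap (Polynomial B) (FractionRing (Polynomial B)) (F.map π) := by
  induction F using Polynomial.induction_on' with
  | add p q hp hq => simp only [map_add, hp, hq, Polynomial.map_add]
  | monomial n a =>
    rw [← Polynomial.C_mul_X_pow_eq_monomial, map_mul, map_mul, map_pow, map_pow, Θ_C, Θ_X, Ψ_X, Ψ_blow,
      Polynomial.map_mul, Polynomial.map_pow, Polynomial.map_C, Polynomial.map_X, map_mul, map_pow]
    rfl

/-- The ideal of the closure of `{(t, a, q) : t ≠ 0, (a, t q) ∈ V(ker π)}`. -/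
noncomputable def QQ : Ideal (Polynomial (MvPolynomial (ι ⊕ κ) k)) := RingHom.ker (Ψ π)

instance : (QQ π).IsPrime := RingHom.ker_isPrime _

theorem Θ_mem_QQ_iff (F : Polynomial (MvPolynomial (ι ⊕ κ) k)) : Θ F ∈ QQ π ↔ F.map π = 0 := by
  rw [QQ, RingHom.mem_ker, Ψ_Θ, FaithfulSMul.algebraMap_eq_zero_iff]

theorem X_pow_mul_mem_QQ_iff (N : ℕ) (f : Polynomial (MvPolynomial (ι ⊕ κ) k)) :
    Polynomial.X ^ N * f ∈ QQ π ↔ f ∈ QQ π := by
  rw [QQ, RingHom.mem_ker, RingHom.mem_ker, map_mul, map_pow, Ψ_X, mul_eq_zero,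
    or_iff_right (pow_ne_zero _ TT_ne_zero)]

theorem ev_eq_zero_of_mem {f : Polynomial (MvPolynomial (ι ⊕ κ) k)} (hf : f ∈ QQ π) {t : k} (ht : t ≠ 0)
    {x : ι ⊕ κ → k} (hx : sc t x ∈ zeroLocus k (RingHom.ker π)) : ev t x f = 0 := by
  obtain ⟨N, F, hF⟩ := exists_clear f
  have h1 : Θ F ∈ QQ π := by rw [← hF]; exact (X_pow_mul_mem_QQ_iff π N f).2 hf
  rw [Θ_mem_QQ_iff] at h1
  have h2 : ev t (sc t x) F = 0 := by
    rw [ev_eq]
    have h3 : F.map (MvPolynomial.eval (sc t x)) = 0 := by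
      ext m
      rw [Polynomial.coeff_map, Polynomial.coeff_zero]
      have h6 := congrArg (fun q => Polynomial.coeff q m) h1
      simp only [Polynomial.coeff_map, Polynomial.coeff_zero] at h6
      have := (mem_zeroLocus_iff.1 hx) _ (RingHom.mem_ker.2 h6)
      rwa [aeval_eq_eval] at this
    rw [h3, Polynomial.eval_zero]
  rw [← ev_Θ, ← hF, map_mul, map_pow, ev_X] at h2
  exact (mul_eq_zero.1 h2).resolve_left (pow_ne_zero _ ht)

theorem mem_of_ev_eq_zero [IsAlgClosed k] [Finite ι] [Finite κ] {f : Polynomial (MvPolynomial (ι ⊕ κ) k)}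
    (hf : ∀ (t : k) (x : ι ⊕ κ → k), t ≠ 0 → sc t x ∈ zeroLocus k (RingHom.ker π) → ev t x f = 0) : f ∈ QQ π := by
  obtain ⟨N, F, hF⟩ := exists_clear f
  rw [← X_pow_mul_mem_QQ_iff π N, hF, Θ_mem_QQ_iff]
  ext m
  rw [Polynomial.coeff_map, Polynomial.coeff_zero, ← RingHom.mem_ker]
  have := RingHom.ker_isPrime π
  rw [← IsPrime.vanishingIdeal_zeroLocus (K := k) (RingHom.ker π), mem_vanishingIdeal_iff]
  intro y hy
  rw [aeval_eq_eval]
  have h1 : F.map (MvPolynomial.eval y) = 0 := by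
    refine Polynomial.eq_zero_of_infinite_isRoot _ ?_
    have : Infinite k := IsAlgClosed.instInfinite
    refine Set.Infinite.mono (s := ({0}ᶜ : Set k)) ?_ (Set.Finite.infinite_compl (Set.finite_singleton 0))
    intro t ht
    have ht' : t ≠ 0 := ht
    have e : sc t (Sum.elim (fun i => y (Sum.inl i)) fun j => t⁻¹ * y (Sum.inr j)) = y := by
      ext i
      rcases i with i | j
      · rfl
      · simp only [sc, Sum.elim_inr]
        rw [mul_inv_cancel_left₀ ht']
    change (F.map (MvPolynomial.eval y)).eval t = 0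
    rw [← ev_eq]
    conv_lhs => rw [← e]
    rw [← ev_Θ, ← hF, map_mul, hf t _ ht' (by rw [e]; exact hy), mul_zero]
  have h2 := congrArg (fun q => Polynomial.coeff q m) h1
  simpa using h2

/-- The dimension of the closure. -/
theorem dim_QQ [Finite ι] [Finite κ] (hπ : Function.Surjective π) :
    ringKrullDim B + 1 ≤ ringKrullDim (Polynomial (MvPolynomial (ι ⊕ κ) k) ⧸ QQ π) := by
  have hN : IsNoetherianRing B := isNoetherianRing_of_surjective _ _ π hπ
  let g : Polynomial (MvPolynomial (ι ⊕ κ) k) →ₐ[k] Polynomial (MvPolynomial (ι ⊕ κ) k) ⧸ QQ π :=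
    { (Ideal.Quotient.mk (QQ π)).comp Θ with
      commutes' := fun c => by
        change Ideal.Quotient.mk (QQ π) (Θ (Polynomial.C (C c))) = _
        rw [Θ_C]
        simp only [blow, MvPolynomial.algHom_C]
        rfl }
  have hg : RingHom.ker g = RingHom.ker (Polynomial.mapRingHom π) := by
    ext F
    rw [RingHom.mem_ker, RingHom.mem_ker]
    change Ideal.Quotient.mk (QQ π) (Θ F) = 0 ↔ _
    rw [Ideal.Quotient.eq_zero_iff_mem, Θ_mem_QQ_iff]
    rfl
  have hgp : (RingHom.ker g).IsPrime := RingHom.ker_isPrime _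
  have h1 : ringKrullDim (Polynomial (MvPolynomial (ι ⊕ κ) k) ⧸ RingHom.ker g) = ringKrullDim B + 1 := by
    rw [← Polynomial.ringKrullDim_of_isNoetherianRing (R := B)]
    exact ringKrullDim_eq_of_ringEquiv ((Ideal.quotEquivOfEq hg).trans
      (RingHom.quotientKerEquivOfSurjective (Polynomial.map_surjective π hπ)))
  rw [← h1]
  obtain ⟨d, hd1, hd2, -⟩ := exists_dim k (Polynomial (MvPolynomial (ι ⊕ κ) k) ⧸ RingHom.ker g)
  obtain ⟨e, he1, he2, -⟩ := exists_dim k (Polynomial (MvPolynomial (ι ⊕ κ) k) ⧸ QQ π)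
  have h2 := trdeg_le_of_injective (R := k) (A := Polynomial (MvPolynomial (ι ⊕ κ) k) ⧸ RingHom.ker g)
    (A' := Polynomial (MvPolynomial (ι ⊕ κ) k) ⧸ QQ π) (Ideal.kerLiftAlg g) (Ideal.kerLiftAlg_injective g)
  rw [hd2, he2] at h2
  rw [hd1, he1]
  exact_mod_cast h2

/-- Krull's theorem for domains of finite type. -/
theorem exists_cut (k : Type u) [Field k] (D : Type u) [CommRing D] [IsDomain D] [Algebra k D] [Algebra.FiniteType k D]
    (l : D) (hl : ¬ IsUnit l) :
    ∃ p : Ideal D, p.IsPrime ∧ l ∈ p ∧ ringKrullDim D ≤ ringKrullDim (D ⧸ p) + 1 := by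
  have hN : IsNoetherianRing D := Algebra.FiniteType.isNoetherianRing k D
  have hlt : Ideal.span {l} ≠ ⊤ := by
    rwa [Ne, Ideal.span_singleton_eq_top]
  obtain ⟨p, hp⟩ := Ideal.nonempty_minimalPrimes hlt
  have hpp : p.IsPrime := hp.1.1
  have hph : p.height ≤ 1 := Ideal.height_le_one_of_isPrincipal_of_mem_minimalPrimes (Ideal.span {l}) p hp
  refine ⟨p, hpp, hp.1.2 (Ideal.mem_span_singleton_self l), ?_⟩
  have h3 := height_add_ringKrullDim_quotient k D p
  rw [← h3, add_comm]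
  exact add_le_add_right (by exact_mod_cast hph) _

/-- The fibre over `t = 0` of a closed subset of an affine space over the line. -/
theorem exists_fibre {σ : Type} [Finite σ] (Q : Ideal (Polynomial (MvPolynomial σ k))) [hQ : Q.IsPrime]
    (hne : ∀ f, 1 - Polynomial.X * f ∉ Q) :
    ∃ P' : Ideal (MvPolynomial σ k), P'.IsPrime ∧
      ringKrullDim (Polynomial (MvPolynomial σ k) ⧸ Q) ≤ ringKrullDim (MvPolynomial σ k ⧸ P') + 1 ∧
      ∀ f ∈ Q, f.coeff 0 ∈ P' := by
  have hl : ¬ IsUnit (Ideal.Quotient.mk Q Polynomial.X) := by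
    rintro ⟨u, hu⟩
    obtain ⟨f, hf⟩ := Ideal.Quotient.mk_surjective (↑u⁻¹ : Polynomial (MvPolynomial σ k) ⧸ Q)
    apply hne f
    rw [← Ideal.Quotient.eq_zero_iff_mem, map_sub, map_mul, hf, map_one, sub_eq_zero, ← hu]
    exact u.mul_inv.symm
  obtain ⟨p, hpp, hlp, hdim⟩ := exists_cut k (Polynomial (MvPolynomial σ k) ⧸ Q) _ hl
  let ρ : MvPolynomial σ k →+* (Polynomial (MvPolynomial σ k) ⧸ Q) ⧸ p :=
    (Ideal.Quotient.mk p).comp ((Ideal.Quotient.mk Q).comp Polynomial.C)
  have hρ : ∀ f : Polynomial (MvPolynomial σ k),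
      Ideal.Quotient.mk p (Ideal.Quotient.mk Q f) = ρ (f.coeff 0) := by
    intro f
    have h4 : f = Polynomial.X * f.divX + Polynomial.C (f.coeff 0) := (Polynomial.X_mul_divX_add f).symm
    conv_lhs => rw [h4]
    rw [map_add, map_add, map_mul, map_mul]
    have h5 : Ideal.Quotient.mk p (Ideal.Quotient.mk Q Polynomial.X) = 0 := Ideal.Quotient.eq_zero_iff_mem.2 hlp
    rw [h5, zero_mul, zero_add]
    rfl
  have hρs : Function.Surjective ρ := by
    intro y
    obtain ⟨y, rfl⟩ := Ideal.Quotient.mk_surjective y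
    obtain ⟨f, rfl⟩ := Ideal.Quotient.mk_surjective y
    exact ⟨f.coeff 0, (hρ f).symm⟩
  refine ⟨RingHom.ker ρ, RingHom.ker_isPrime ρ, ?_, fun f hf => ?_⟩
  · rwa [ringKrullDim_eq_of_ringEquiv (RingHom.quotientKerEquivOfSurjective hρs)]
  · rw [RingHom.mem_ker, ← hρ, Ideal.Quotient.eq_zero_iff_mem.2 hf, map_zero]

/-- The fibre over `t = 0`. -/
theorem exists_limit [Finite ι] [Finite κ] (P : Ideal (MvPolynomial (ι ⊕ κ) k)) [hP : P.IsPrime]
    (hne : ∀ f, 1 - Polynomial.X * f ∉ QQ (Ideal.Quotient.mk P)) :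
    ∃ P' : Ideal (MvPolynomial (ι ⊕ κ) k), P'.IsPrime ∧ P'.height ≤ P.height ∧
      ∀ x ∈ zeroLocus k P', ∀ f ∈ QQ (Ideal.Quotient.mk P), ev 0 x f = 0 := by
  have hdim := dim_QQ (Ideal.Quotient.mk P) Ideal.Quotient.mk_surjective
  obtain ⟨P', hP', hdim', hmem⟩ := exists_fibre _ hne
  refine ⟨P', hP', ?_, ?_⟩
  · obtain ⟨d', h', hd', -, hh', hs'⟩ := K714.DimMv.exists_nat_dim P'
    obtain ⟨d, h, hd, -, hh, hs⟩ := K714.DimMv.exists_nat_dim P
    have h5 := hdim.trans hdim'
    rw [hd', hd] at h5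
    rw [hh', hh]
    have h6 : d + 1 ≤ d' + 1 := by exact_mod_cast h5
    have h8 : h' ≤ h := by omega
    exact_mod_cast h8
  · intro x hx f hf
    have h5 := (mem_zeroLocus_iff.1 hx) _ (hmem f hf)
    rw [aeval_eq_eval] at h5
    rw [ev_eq, ← Polynomial.coeff_zero_eq_eval_zero, Polynomial.coeff_map]
    exact h5

variable (w : ι → ℕ) (m : ℕ)

theorem one_sub_notMem [Infinite k] (P : Ideal (MvPolynomial (ι ⊕ κ) k)) [hP : P.IsPrime] (hm : 1 ≤ m)
    (hst : ∀ (s : k) (x : ι ⊕ κ → k), x ∈ zeroLocus k P → act (Sum.elim w fun _ => m) s x ∈ zeroLocus k P)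
    {x : ι ⊕ κ → k} (hx : x ∈ zeroLocus k P) (f : Polynomial (MvPolynomial (ι ⊕ κ) k)) :
    1 - Polynomial.X * f ∉ QQ (Ideal.Quotient.mk P) := by
  intro hf
  -- the curve `s ↦ (s^m, s^w a, b)`
  let γ : ι ⊕ κ → Polynomial k :=
    Sum.elim (fun i => Polynomial.C (x (Sum.inl i)) * Polynomial.X ^ w i) fun j => Polynomial.C (x (Sum.inr j))
  let H : Polynomial (MvPolynomial (ι ⊕ κ) k) →+* Polynomial k :=
    Polynomial.eval₂RingHom (MvPolynomial.eval₂Hom Polynomial.C γ) (Polynomial.X ^ m)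
  have hev : ∀ (s : k) (g : Polynomial (MvPolynomial (ι ⊕ κ) k)),
      (H g).eval s = ev (s ^ m) (fun i => (γ i).eval s) g := by
    intro s g
    induction g using Polynomial.induction_on' with
    | add p q hp hq => simp only [map_add, Polynomial.eval_add, hp, hq]
    | monomial n a =>
      rw [← Polynomial.C_mul_X_pow_eq_monomial, map_mul, map_mul, Polynomial.eval_mul, map_pow, map_pow,
        Polynomial.eval_pow, ev_X, ev_C]
      have h1 : H Polynomial.X = Polynomial.X ^ m := Polynomial.eval₂_X _ _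
      have h2 : H (Polynomial.C a) = MvPolynomial.eval₂Hom Polynomial.C γ a := Polynomial.eval₂_C _ _
      rw [h1, h2, Polynomial.eval_pow, Polynomial.eval_X]
      congr 1
      rw [← Polynomial.coe_evalRingHom, MvPolynomial.coe_eval₂Hom, MvPolynomial.eval₂_comp_left]
      rw [MvPolynomial.eval, MvPolynomial.coe_eval₂Hom]
      congr 1
      ext c
      simp
  have h0 : H (1 - Polynomial.X * f) = 0 := by
    refine Polynomial.eq_zero_of_infinite_isRoot _ ?_
    refine Set.Infinite.mono (s := ({0}ᶜ : Set k)) ?_ (Set.Finite.infinite_compl (Set.finite_singleton 0))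
    intro s hs
    have hs' : s ≠ 0 := hs
    change (H (1 - Polynomial.X * f)).eval s = 0
    rw [hev]
    refine ev_eq_zero_of_mem _ hf (pow_ne_zero _ hs') ?_
    rw [Ideal.mk_ker]
    convert hst s x hx using 1
    ext i
    rcases i with i | j
    · simp [sc, act, γ]
    · simp only [sc, act, γ, Sum.elim_inr, Polynomial.eval_C]
      rw [mul_comm]
  have h1 := hev 0 (1 - Polynomial.X * f)
  rw [h0, Polynomial.eval_zero, map_sub, map_mul, ev_X, zero_pow (by omega), zero_mul, map_one, sub_zero] at h1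
  exact zero_ne_one h1

/-- **Limit lemma.** -/
theorem Cd.of_limit [IsAlgClosed k] [Finite ι] [Finite κ] (hm : 1 ≤ m) {Y L : Set (ι ⊕ κ → k)}
    (hY : ∀ (s : k) (x : ι ⊕ κ → k), x ∈ Y → act (Sum.elim w fun _ => m) s x ∈ Y)
    (hYc : ∀ x, x ∈ zeroLocus k (vanishingIdeal k Y) → x ∈ Y)
    (hL : ∀ x : ι ⊕ κ → k, (∀ f : Polynomial (MvPolynomial (ι ⊕ κ) k),
      (∀ (t : k) (y : ι ⊕ κ → k), t ≠ 0 → sc t y ∈ Y → ev t y f = 0) → ev 0 x f = 0) → x ∈ L)
    {c : ℕ} (hc : Cd L c) : Cd Y c := by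
  have : Infinite k := IsAlgClosed.instInfinite
  rw [Cd, Ideal.height_eq_inf_minimalPrimes]
  refine le_iInf₂ fun P hP => ?_
  have hPp : P.IsPrime := hP.1.1
  obtain ⟨x₀, hx₀⟩ := K714.Codim.exists_mem_zeroLocus P
  obtain ⟨P', hP', hle, hlim⟩ := exists_limit P
    (one_sub_notMem w m P hm (fun s x hx => act_mem_of_minimalPrimes _ hY hP s hx) hx₀)
  have h1 : vanishingIdeal k L ≤ P' := by
    conv_rhs => rw [← IsPrime.vanishingIdeal_zeroLocus (K := k) P']
    refine vanishingIdeal_anti_mono fun x hx => hL x fun f hf => hlim x hx f ?_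
    refine mem_of_ev_eq_zero _ fun t y ht hy => hf t y ht (hYc _ ?_)
    rw [Ideal.mk_ker] at hy
    exact zeroLocus_anti_mono hP.1.2 hy
  calc (c : ℕ∞) ≤ (vanishingIdeal k L).height := hc
    _ ≤ P'.height := Ideal.height_mono h1
    _ ≤ P.height := hle

end limit

end K479.ArcLim
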