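import Groth.Agent.Fano.K479.ArcDim

/-!
# The dimension of the space of arcs on a cone: the theorem (helper479)

`arcSet G p e`: the set of all `a ∈ (k^N)^e` such that `G(p + t a_1 + … + t^e a_e) = 0` for all `t`.
`main`: if through every point of the cone `G = 0` except the vertex the lines on the cone have codimension at least
`d = deg G`, and `2 d ≤ dim N`, then `arcSet G p e` has codimension at least `d e` for every `p ≠ 0` on the cone.
-/

set_option autoImplicit false

universe u

namespace K479.ArcMain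

open MvPolynomial K479.ArcLim K479.ArcDim

variable {k : Type u} [Field k]

theorem subst {N : Type} {A : Type u} [CommRing A] [Algebra k A] (φ : A →+* k) (hφ : ∀ c, φ (algebraMap k A c) = c)
    (z : N → A) (G : MvPolynomial N k) : φ (aeval z G) = MvPolynomial.eval (fun i => φ (z i)) G := by
  induction G using MvPolynomial.induction_on with
  | C a => simp [hφ]
  | add p q hp hq => simp only [map_add, hp, hq]
  | mul_X p i hp => simp only [map_mul, hp, aeval_X, eval_X]

/-- Sets given by polynomial conditions are closed. -/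
theorem closed_of_polys {σ : Type} [Finite σ] {U : Type*} (g : U → MvPolynomial σ k) {Y : Set (σ → k)}
    (hY : ∀ x, x ∈ Y ↔ ∀ u, MvPolynomial.eval x (g u) = 0) (x : σ → k)
    (hx : x ∈ zeroLocus k (vanishingIdeal k Y)) : x ∈ Y := by
  rw [hY]
  intro u
  rw [mem_zeroLocus_iff] at hx
  have := hx (g u) (by
    rw [mem_vanishingIdeal_iff]
    intro y hy
    rw [aeval_eq_eval]
    exact (hY y).1 hy u)
  rwa [aeval_eq_eval] at this

variable {N : Type} [Finite N] (G : MvPolynomial N k) (p : N → k)

/-- Arcs of length `e` on the cone, with starting point `p`. -/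
def arcSet (e : ℕ) : Set (Fin e × N → k) :=
  {a | ∀ t : k, MvPolynomial.eval (fun i => p i + ∑ j : Fin e, t ^ ((j : ℕ) + 1) * a (j, i)) G = 0}

/-- The same set of arcs with the last vector split off. -/
def arcS (e : ℕ) : Set (Fin e × N ⊕ N → k) :=
  {x | ∀ t : k, MvPolynomial.eval
    (fun i => (p i + ∑ j : Fin e, t ^ ((j : ℕ) + 1) * x (Sum.inl (j, i))) + t ^ (e + 1) * x (Sum.inr i)) G = 0}

/-- Splitting off the last vector. -/
def spl (e : ℕ) (N : Type) : Fin e × N ⊕ N ≃ Fin (e + 1) × N where
  toFun := Sum.elim (fun y => (y.1.castSucc, y.2)) fun i => (Fin.last e, i)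
  invFun x := Fin.lastCases (motive := fun _ => Fin e × N ⊕ N) (Sum.inr x.2) (fun j => Sum.inl (j, x.2)) x.1
  left_inv := by rintro (⟨j, i⟩ | i) <;> simp
  right_inv := by
    rintro ⟨j, i⟩
    refine Fin.lastCases ?_ (fun j => ?_) j <;> simp

omit [Finite N] in
theorem arcS_of_arcSet {e : ℕ} {a : Fin (e + 1) × N → k} (ha : a ∈ arcSet G p (e + 1)) :
    (fun i => a (spl e N i)) ∈ arcS G p e := by
  intro t
  have := ha t
  simp only [Fin.sum_univ_castSucc, ← add_assoc] at this
  exact this

theorem arcSet_closed (e : ℕ) (x : Fin e × N → k) (hx : x ∈ zeroLocus k (vanishingIdeal k (arcSet G p e))) :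
    x ∈ arcSet G p e := by
  refine closed_of_polys (fun t : k => (aeval (fun i => C (p i) + ∑ j : Fin e, C (t ^ ((j : ℕ) + 1)) * X (j, i)) G :
    MvPolynomial (Fin e × N) k)) (fun a => ?_) x hx
  refine forall_congr' fun t => ?_
  rw [subst (MvPolynomial.eval a) (fun c => by simp)]
  simp

theorem arcS_closed (e : ℕ) (x : Fin e × N ⊕ N → k) (hx : x ∈ zeroLocus k (vanishingIdeal k (arcS G p e))) :
    x ∈ arcS G p e := by
  refine closed_of_polys (fun t : k => (aeval (fun i => C (p i) + ∑ j : Fin e, C (t ^ ((j : ℕ) + 1)) *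
    X (Sum.inl (j, i)) + C (t ^ (e + 1)) * X (Sum.inr i)) G : MvPolynomial (Fin e × N ⊕ N) k)) (fun a => ?_) x hx
  refine forall_congr' fun t => ?_
  rw [subst (MvPolynomial.eval a) (fun c => by simp)]
  simp

/-- The limit set. -/
def limSet (e : ℕ) : Set (Fin (e + 1) × N ⊕ N → k) :=
  {x | (fun i => x (Sum.inl i)) ∈ arcSet G p (e + 1) ∧
    ∀ u : k, MvPolynomial.eval (fun i => x (Sum.inl (Fin.last e, i)) + u * x (Sum.inr i)) G = 0}

theorem limSet_closed (e : ℕ) (x : Fin (e + 1) × N ⊕ N → k)
    (hx : x ∈ zeroLocus k (vanishingIdeal k (limSet G p e))) : x ∈ limSet G p e := by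
  refine closed_of_polys (U := k ⊕ k) (Sum.elim
    (fun t : k => (aeval (fun i => C (p i) + ∑ j : Fin (e + 1), C (t ^ ((j : ℕ) + 1)) * X (Sum.inl (j, i))) G :
      MvPolynomial (Fin (e + 1) × N ⊕ N) k))
    (fun u : k => (aeval (fun i => X (Sum.inl (Fin.last e, i)) + C u * X (Sum.inr i)) G :
      MvPolynomial (Fin (e + 1) × N ⊕ N) k))) (fun a => ?_) x hx
  rw [Sum.forall]
  refine and_congr (forall_congr' fun t => ?_) (forall_congr' fun t => ?_)
  · rw [Sum.elim_inl, subst (MvPolynomial.eval a) (fun c => by simp)]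
    simp
  · rw [Sum.elim_inr, subst (MvPolynomial.eval a) (fun c => by simp)]
    simp

omit [Finite N] in
/-- The set of arcs is a cone for the weights `1, …, e + 1`. -/
theorem arcS_act (e : ℕ) (s : k) {x : Fin e × N ⊕ N → k} (hx : x ∈ arcS G p e) :
    act (Sum.elim (fun y : Fin e × N => (y.1 : ℕ) + 1) fun _ => e + 1) s x ∈ arcS G p e := by
  intro t
  have h := hx (t * s)
  have e1 : (fun i => (p i + ∑ j : Fin e, (t * s) ^ ((j : ℕ) + 1) * x (Sum.inl (j, i))) +
      (t * s) ^ (e + 1) * x (Sum.inr i)) =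
      fun i => (p i + ∑ j : Fin e, t ^ ((j : ℕ) + 1) *
        act (Sum.elim (fun y : Fin e × N => (y.1 : ℕ) + 1) fun _ => e + 1) s x (Sum.inl (j, i))) +
      t ^ (e + 1) * act (Sum.elim (fun y : Fin e × N => (y.1 : ℕ) + 1) fun _ => e + 1) s x (Sum.inr i) := by
    funext i
    congr 1
    · congr 1
      refine Finset.sum_congr rfl fun j _ => ?_
      simp only [act, Sum.elim_inl]
      ring
    · simp only [act, Sum.elim_inr]
      ring
  rwa [e1] at h

omit [Finite N] in
theorem eval_line_zero [Infinite k] (v q : N → k)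
    (h : ∀ u : k, u ≠ 0 → MvPolynomial.eval (fun i => v i + u * q i) G = 0) (u : k) :
    MvPolynomial.eval (fun i => v i + u * q i) G = 0 := by
  let P : Polynomial k := aeval (fun i => Polynomial.C (v i) + Polynomial.X * Polynomial.C (q i)) G
  have hP : ∀ s : k, P.eval s = MvPolynomial.eval (fun i => v i + s * q i) G := by
    intro s
    have h1 := subst (Polynomial.evalRingHom s) (fun c => by simp)
      (fun i => Polynomial.C (v i) + Polynomial.X * Polynomial.C (q i)) G
    rw [Polynomial.coe_evalRingHom] at h1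
    refine h1.trans ?_
    congr 1
    refine congrArg _ (funext fun i => ?_)
    simp only [Polynomial.eval_add, Polynomial.eval_C, Polynomial.eval_mul, Polynomial.eval_X]
  have h0 : P = 0 := by
    refine Polynomial.eq_zero_of_infinite_isRoot _ ?_
    refine Set.Infinite.mono (s := ({0}ᶜ : Set k)) ?_ (Set.Finite.infinite_compl (Set.finite_singleton 0))
    intro s hs
    change P.eval s = 0
    rw [hP]
    exact h s hs
  rw [← hP, h0, Polynomial.eval_zero]

omit [Finite N] in
theorem eval_smul_fun {d : ℕ} {G : MvPolynomial N k} (hG : G.IsHomogeneous d) (c : k) (v : N → k) :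
    MvPolynomial.eval (fun i => c * v i) G = c ^ d * MvPolynomial.eval v G :=
  Groth.Agent.Lefpen.H703.Elim.eval_smul_of_isHomogeneous hG c v

theorem pow_mul_pow_inv {t : k} (ht : t ≠ 0) (u : k) {e j : ℕ} (hj : j ≤ e) :
    t ^ (e + 1) * (u * t⁻¹) ^ (j + 1) = u ^ (j + 1) * t ^ (e - j) := by
  obtain ⟨m, rfl⟩ := Nat.exists_eq_add_of_le hj
  rw [show j + m + 1 = m + (j + 1) by ring, pow_add, mul_assoc, ← mul_pow, mul_left_comm t u, mul_inv_cancel₀ ht,
    mul_one, mul_comm, Nat.add_sub_cancel_left]

omit [Finite N] in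
/-- The limits of arcs. -/
theorem mem_limSet [Infinite k] {d : ℕ} (hG : G.IsHomogeneous d) (e : ℕ) (x : Fin (e + 1) × N ⊕ N → k)
    (hx : ∀ f : Polynomial (MvPolynomial (Fin (e + 1) × N ⊕ N) k),
      (∀ (t : k) (y : Fin (e + 1) × N ⊕ N → k), t ≠ 0 → sc t y ∈ arcS G p (e + 1) → ev t y f = 0) → ev 0 x f = 0) :
    x ∈ limSet G p e := by
  have hev : ∀ (t : k) (y : Fin (e + 1) × N ⊕ N → k) (c : k),
      ev t y (algebraMap k (Polynomial (MvPolynomial (Fin (e + 1) × N ⊕ N) k)) c) = c := by
    intro t y c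
    have h1 : algebraMap k (Polynomial (MvPolynomial (Fin (e + 1) × N ⊕ N) k)) c = Polynomial.C (C c) := rfl
    rw [h1, ev_C, eval_C]
  refine ⟨fun u => ?_, eval_line_zero G _ _ fun u hu => ?_⟩
  · have h := hx (aeval (fun i => (Polynomial.C (C (p i)) + ∑ j : Fin (e + 1),
      Polynomial.C (C (u ^ ((j : ℕ) + 1)) * X (Sum.inl (j, i)))) +
        Polynomial.C (C (u ^ (e + 2)) * X (Sum.inr i)) * Polynomial.X) G) ?_
    · rw [subst _ (hev _ _)] at h
      simp only [map_add, map_sum, ev_C, map_mul, eval_C, eval_X, ev_X, mul_zero, add_zero] at h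
      exact h
    · intro t y ht hy
      rw [subst _ (hev _ _)]
      simp only [map_add, map_sum, ev_C, map_mul, eval_C, eval_X, ev_X]
      have := hy u
      simp only [sc, Sum.elim_inl, Sum.elim_inr] at this
      rw [← this]
      congr 1
      refine congrArg _ (funext fun i => ?_)
      ring
  · have h := hx (aeval (fun i => (Polynomial.C (C (p i)) * Polynomial.X ^ (e + 1) + ∑ j : Fin (e + 1),
      Polynomial.C (C (u ^ ((j : ℕ) + 1)) * X (Sum.inl (j, i))) * Polynomial.X ^ (e - (j : ℕ))) +
        Polynomial.C (C (u ^ (e + 2)) * X (Sum.inr i))) G) ?_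
    · rw [subst _ (hev _ _)] at h
      simp only [map_add, map_sum, ev_C, map_mul, map_pow, eval_C, eval_X, ev_X, Fin.sum_univ_castSucc] at h
      have e1 : (fun i : N => p i * 0 ^ (e + 1) + (∑ j : Fin e, u ^ ((j.castSucc : ℕ) + 1) *
          x (Sum.inl (j.castSucc, i)) * 0 ^ (e - (j.castSucc : ℕ)) +
          u ^ (((Fin.last e : Fin (e + 1)) : ℕ) + 1) * x (Sum.inl (Fin.last e, i)) *
            0 ^ (e - ((Fin.last e : Fin (e + 1)) : ℕ))) + u ^ (e + 2) * x (Sum.inr i)) =
          fun i => u ^ (e + 1) * (x (Sum.inl (Fin.last e, i)) + u * x (Sum.inr i)) := by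
        funext i
        have e2 : ∑ j : Fin e, u ^ ((j.castSucc : ℕ) + 1) *
          x (Sum.inl (j.castSucc, i)) * 0 ^ (e - (j.castSucc : ℕ)) = 0 := by
          refine Finset.sum_eq_zero fun j _ => ?_
          have := j.2
          rw [zero_pow, mul_zero]
          simp only [Fin.val_castSucc]
          omega
        rw [e2, zero_pow (by omega), Fin.val_last, Nat.sub_self, pow_zero]
        ring
      rw [e1, eval_smul_fun hG] at h
      exact (mul_eq_zero.1 h).resolve_left (pow_ne_zero _ (pow_ne_zero _ hu))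
    · intro t y ht hy
      rw [subst _ (hev _ _)]
      simp only [map_add, map_sum, ev_C, map_mul, map_pow, eval_C, eval_X, ev_X]
      have := hy (u * t⁻¹)
      simp only [sc, Sum.elim_inl, Sum.elim_inr] at this
      have e1 : (fun i : N => (p i * t ^ (e + 1) + ∑ j : Fin (e + 1),
          u ^ ((j : ℕ) + 1) * y (Sum.inl (j, i)) * t ^ (e - (j : ℕ))) + u ^ (e + 2) * y (Sum.inr i)) =
          fun i => t ^ (e + 1) * ((p i + ∑ j : Fin (e + 1), (u * t⁻¹) ^ ((j : ℕ) + 1) * y (Sum.inl (j, i))) +
            (u * t⁻¹) ^ (e + 1 + 1) * (t * y (Sum.inr i))) := by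
        funext i
        rw [mul_add, mul_add, Finset.mul_sum]
        congr 1
        · congr 1
          · ring
          · refine Finset.sum_congr rfl fun j _ => ?_
            rw [← mul_assoc, pow_mul_pow_inv ht u (Nat.lt_succ_iff.1 j.2)]
            ring
        · have h5 : t ^ (e + 1) * (u * t⁻¹) ^ (e + 1 + 1) * t = u ^ (e + 2) := by
            rw [mul_right_comm, ← pow_succ, ← mul_pow, mul_left_comm t u, mul_inv_cancel₀ ht, mul_one]
          rw [← mul_assoc, ← mul_assoc, h5]
      rw [e1, eval_smul_fun hG, this, mul_zero]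

/-- The lines on the cone through a point of the cone. -/
def lineSet (v : N → k) : Set (N → k) := {q | ∀ u : k, MvPolynomial.eval (fun i => v i + u * q i) G = 0}

theorem le_height_comap [IsAlgClosed k] {ι κ : Type} [Finite ι] [Finite κ] (P : Ideal (MvPolynomial (ι ⊕ κ) k))
    [hP : P.IsPrime] {B : Set (ι → k)} (hB : ∀ x ∈ zeroLocus k P, (fun i => x (Sum.inl i)) ∈ B) {c : ℕ} (hc : Cd B c) :
    (c : ℕ∞) ≤ (P.comap (rename (R := k) Sum.inl).toRingHom).height := by
  refine le_trans hc (Ideal.height_mono ?_)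
  intro g hg
  rw [Ideal.mem_comap, ← IsPrime.vanishingIdeal_zeroLocus (K := k) P, mem_vanishingIdeal_iff]
  intro y hy
  have := (mem_vanishingIdeal_iff.1 hg) _ (hB y hy)
  rw [aeval_eq_eval] at this ⊢
  change MvPolynomial.eval y (rename Sum.inl g) = 0
  rw [eval_rename]
  exact this

/-- The dimension of the limit set. -/
theorem cd_limSet [IsAlgClosed k] {d : ℕ} (hlin : ∀ v : N → k, v ≠ 0 → MvPolynomial.eval v G = 0 → Cd (lineSet G v) d)
    (hd : 2 * d ≤ Nat.card N) (e : ℕ) (h0 : Cd (arcSet G p e) (d * e)) (h1 : Cd (arcSet G p (e + 1)) (d * (e + 1))) :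
    Cd (limSet G p e) (d * (e + 2)) := by
  rw [Cd, K714.Codim.le_height_iff]
  intro P hP hle
  have hsub : ∀ y, y ∈ zeroLocus k P → y ∈ limSet G p e :=
    fun y hy => limSet_closed G p e y (zeroLocus_anti_mono hle hy)
  by_cases hx : ∃ x ∈ zeroLocus k P, (fun i => x (Sum.inl (Fin.last e, i))) ≠ 0
  · obtain ⟨x, hx, hne⟩ := hx
    have hxe : Sum.elim (fun i => x (Sum.inl i)) (fun j => x (Sum.inr j)) = x := Sum.elim_comp_inl_inr x
    have h2 := add_le_height P (v := fun i => x (Sum.inl i)) (w := fun j => x (Sum.inr j)) (by rwa [hxe])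
      (c₁ := d * (e + 1)) (c₂ := d) (le_height_comap P (fun y hy => (hsub y hy).1) h1) ?_
    · rw [show d * (e + 2) = d * (e + 1) + d by ring]
      exact h2
    · refine cd_mono (Z := lineSet G (fun i => x (Sum.inl (Fin.last e, i)))) ?_ (hlin _ hne ?_)
      · intro w hw u
        have h3 := (hsub (Sum.elim (fun i => x (Sum.inl i)) w) hw).2 u
        simp only [Sum.elim_inl, Sum.elim_inr] at h3
        exact h3
      · have h3 := (hsub x hx).2 0
        simp only [zero_mul, add_zero] at h3
        exact h3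
  · push Not at hx
    obtain ⟨x, hx0⟩ := K714.Codim.exists_mem_zeroLocus P
    have hxe : Sum.elim (fun i => x (Sum.inl i)) (fun j => x (Sum.inr j)) = x := Sum.elim_comp_inl_inr x
    let Z : Set (Fin e × N ⊕ N → k) := {x | (fun i => x (Sum.inl i)) ∈ arcSet G p e ∧ ∀ i, x (Sum.inr i) = 0}
    have hZc : ∀ x, x ∈ zeroLocus k (vanishingIdeal k Z) → x ∈ Z := by
      intro x hx
      refine closed_of_polys (U := k ⊕ N) (Sum.elim
        (fun t : k => (aeval (fun i => C (p i) + ∑ j : Fin e, C (t ^ ((j : ℕ) + 1)) * X (Sum.inl (j, i))) G :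
          MvPolynomial (Fin e × N ⊕ N) k))
        (fun i : N => (X (Sum.inr i) : MvPolynomial (Fin e × N ⊕ N) k))) (fun a => ?_) x hx
      rw [Sum.forall]
      refine and_congr (forall_congr' fun t => ?_) (forall_congr' fun i => ?_)
      · rw [Sum.elim_inl, subst (MvPolynomial.eval a) (fun c => by simp)]
        simp
      · rw [Sum.elim_inr, eval_X]
    have hZ : Cd Z (d * e + Nat.card N) := by
      refine cd_of_fibres hZc (B := arcSet G p e) (fun x hx => hx.1) h0 fun v hv => ?_
      refine cd_mono (Z := {0}) ?_ cd_singleton_zero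
      intro w hw
      exact funext fun i => hw.2 i
    have hB := cd_reindex (spl e N) hZ
    have h2 := add_le_height P (v := fun i => x (Sum.inl i)) (w := fun j => x (Sum.inr j)) (by rwa [hxe])
      (c₁ := d * e + Nat.card N) (c₂ := 0) (le_height_comap P (fun y hy => ?_) hB) (cd_zero _)
    · refine le_trans ?_ h2
      have : d * (e + 2) ≤ d * e + Nat.card N + 0 := by
        rw [mul_add]
        omega
      exact_mod_cast this
    · have h3 := arcS_of_arcSet G p (hsub y hy).1
      have h4 := hx y hy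
      refine ⟨fun t => ?_, fun i => congrFun h4 i⟩
      have h5 := h3 t
      have h6 : ∀ i : N, y (Sum.inl (spl e N (Sum.inr i))) = 0 := fun i => congrFun h4 i
      simp only [h6, mul_zero, add_zero] at h5
      exact h5

/-- **Theorem.**  The arcs of length `e` through `p` have codimension at least `d e`. -/
theorem main [IsAlgClosed k] {d : ℕ} {G : MvPolynomial N k} (hG : G.IsHomogeneous d)
    (hlin : ∀ v : N → k, v ≠ 0 → MvPolynomial.eval v G = 0 → Cd (lineSet G v) d)
    (hd : 2 * d ≤ Nat.card N) {p : N → k} (hp : p ≠ 0) (hGp : MvPolynomial.eval p G = 0) (e : ℕ) :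
    Cd (arcSet G p e) (d * e) := by
  have : Infinite k := IsAlgClosed.instInfinite
  induction e using Nat.twoStepInduction with
  | zero => exact cd_zero _
  | one =>
    rw [mul_one]
    refine cd_mono ?_ (cd_reindex (Equiv.uniqueProd N (Fin 1)).symm (hlin p hp hGp))
    intro a ha u
    have := ha u
    simp only [Fin.sum_univ_one, Fin.val_zero, zero_add, pow_one] at this
    exact this
  | more e h0 h1 =>
    have h2 : Cd (arcS G p (e + 1)) (d * (e + 2)) :=
      Cd.of_limit (fun y : Fin (e + 1) × N => (y.1 : ℕ) + 1) (e + 1 + 1) (by omega)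
        (fun s x hx => arcS_act G p (e + 1) s hx) (arcS_closed G p (e + 1)) (fun x hx => mem_limSet G p hG e x hx)
        (cd_limSet G p hlin hd e h0 h1)
    refine cd_mono ?_ (cd_reindex (spl (e + 1) N) h2)
    intro a ha
    exact arcS_of_arcSet G p ha

end K479.ArcMain
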