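import Groth.Agent.Fano.K479.ArcMain
import Groth.Agent.Fano.K948.FanoConeDim
import Mathlib.RingTheory.IntegralClosure.IsIntegralClosure.Basic

/-!
# The dimension of the space of arcs on a cone: ring form, over all fields (helper479)

* `height_contract_le`: contraction of a prime of `Ω[q]` to `k[x, q]`, `x` sent to a point over `Ω`.
* `lines_transfer`: a bound for the codimension of the lines through all nonzero points of a cone over `k` holds over
  every algebraically closed field containing `k`.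
* `ringKrullDim_arc_le`: the coordinate ring of the scheme of arcs of length `e` through `a ≠ 0` has dimension at most
  `e (n + 1 - d)`, over every field containing `k`.
-/

set_option autoImplicit false

universe u

namespace K479.ArcRing

open MvPolynomial K479.ArcLim K479.ArcDim K479.ArcMain Groth.Agent.CalgC.DimFT K714.DimMv

section transfer

variable {k : Type u} [Field k] {Ω : Type u} [Field Ω] [Algebra k Ω] {ι κ : Type}

/-- Specialisation of the first variables to a point over `Ω`. -/
noncomputable def spec (v : ι → Ω) : MvPolynomial (ι ⊕ κ) k →ₐ[k] MvPolynomial κ Ω :=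
  aeval (Sum.elim (fun i => C (v i)) X)

theorem spec_rename_inl (v : ι → Ω) (p : MvPolynomial ι k) :
    spec (κ := κ) v (rename Sum.inl p) = C (aeval v p) := by
  induction p using MvPolynomial.induction_on with
  | C a => simp [spec, MvPolynomial.algebraMap_eq]
  | add p q hp hq => simp only [map_add, hp, hq]
  | mul_X p i hp =>
    have h : spec (κ := κ) v (X (Sum.inl i) : MvPolynomial (ι ⊕ κ) k) = C (v i) := by simp [spec]
    rw [map_mul, map_mul, hp, rename_X, h, map_mul, aeval_X, C_mul]

theorem comap_spec_comap (v : ι → Ω) (M : Ideal (MvPolynomial κ Ω)) [hM : M.IsPrime] :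
    (M.comap (spec (k := k) (κ := κ) v).toRingHom).comap (rename (R := k) Sum.inl).toRingHom =
      RingHom.ker (aeval (R := k) v).toRingHom := by
  ext p
  rw [Ideal.mem_comap, Ideal.mem_comap, RingHom.mem_ker]
  change spec v (rename Sum.inl p) ∈ M ↔ aeval v p = 0
  rw [spec_rename_inl]
  constructor
  · intro h
    by_contra h0
    exact hM.ne_top (Ideal.eq_top_of_isUnit_mem _ h ((isUnit_iff_ne_zero.2 h0).map C))
  · intro h
    rw [h, C_0]
    exact zero_mem _

/-- Contraction of a prime of `Ω[q]` to `k[x, q]`. -/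
theorem height_contract_le [Finite ι] [Finite κ] (v : ι → Ω) (M : Ideal (MvPolynomial κ Ω)) [hM : M.IsPrime] :
    (M.comap (spec (k := k) (κ := κ) v).toRingHom).height ≤
      (RingHom.ker (aeval (R := k) v).toRingHom).height + M.height := by
  have hq : (M.comap (spec (k := k) (κ := κ) v).toRingHom).IsPrime := Ideal.comap_isPrime _ _
  have hP : (RingHom.ker (aeval (R := k) v).toRingHom).IsPrime := RingHom.ker_isPrime _
  obtain ⟨D, h, -, hD, hh, hs⟩ := exists_nat_dim M
  obtain ⟨Dq, hq', -, hDq, hhq, hsq⟩ := exists_nat_dim (M.comap (spec (k := k) (κ := κ) v).toRingHom)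
  obtain ⟨d₀, h₀, -, hd₀, hh₀, hs₀⟩ := exists_nat_dim (RingHom.ker (aeval (R := k) v).toRingHom)
  rw [hh, hhq, hh₀]
  set q : Ideal (MvPolynomial (ι ⊕ κ) k) := M.comap (spec (k := k) (κ := κ) v).toRingHom with hqdef
  set P₀ : Ideal (MvPolynomial ι k) := RingHom.ker (aeval (R := k) v).toRingHom with hP₀def
  -- the rings
  let g : MvPolynomial (ι ⊕ κ) k ⧸ q →ₐ[k] MvPolynomial κ Ω ⧸ M :=
    Ideal.Quotient.liftₐ q ((Ideal.Quotient.mkₐ k M).comp (spec v)) fun a ha => Ideal.Quotient.eq_zero_iff_mem.2 ha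
  have hg : ∀ p, g (Ideal.Quotient.mk q p) = Ideal.Quotient.mk M (spec v p) := fun _ => rfl
  have hginj : Function.Injective g := by
    rw [injective_iff_map_eq_zero]
    intro a ha
    obtain ⟨a, rfl⟩ := Ideal.Quotient.mk_surjective a
    rw [hg, Ideal.Quotient.eq_zero_iff_mem] at ha
    exact Ideal.Quotient.eq_zero_iff_mem.2 ha
  let g₀ : MvPolynomial ι k ⧸ P₀ →ₐ[k] Ω := Ideal.Quotient.liftₐ P₀ (aeval v) fun a ha => RingHom.mem_ker.1 ha
  have hg₀ : ∀ p, g₀ (Ideal.Quotient.mk P₀ p) = aeval v p := fun _ => rfl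
  have hg₀inj : Function.Injective g₀ := by
    rw [injective_iff_map_eq_zero]
    intro a ha
    obtain ⟨a, rfl⟩ := Ideal.Quotient.mk_surjective a
    rw [hg₀] at ha
    exact Ideal.Quotient.eq_zero_iff_mem.2 (RingHom.mem_ker.2 ha)
  obtain ⟨s, hs1⟩ := exists_isTranscendenceBasis k (MvPolynomial ι k ⧸ P₀)
  have hgen : Algebra.adjoin Ω (Set.range fun j : κ => Ideal.Quotient.mk M (X j)) = ⊤ := by
    have h1 : Algebra.adjoin Ω (Set.range fun j : κ => (X j : MvPolynomial κ Ω)) = ⊤ := adjoin_range_X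
    have h2 := congrArg (Subalgebra.map (Ideal.Quotient.mkₐ Ω M)) h1
    rw [AlgHom.map_adjoin, Algebra.map_top, ← Set.range_comp] at h2
    rw [(AlgHom.range_eq_top _).2 (Ideal.Quotient.mkₐ_surjective Ω M)] at h2
    exact h2
  have halg : Algebra.IsAlgebraic (Algebra.adjoin Ω (Set.range fun j : κ => Ideal.Quotient.mk M (X j)))
      (MvPolynomial κ Ω ⧸ M) := by
    refine ⟨fun x => ?_⟩
    have hx : x ∈ Algebra.adjoin Ω (Set.range fun j : κ => Ideal.Quotient.mk M (X j)) := by
      rw [hgen]
      exact Algebra.mem_top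
    exact isAlgebraic_algebraMap (⟨x, hx⟩ : Algebra.adjoin Ω (Set.range fun j : κ => Ideal.Quotient.mk M (X j)))
  obtain ⟨t, ht, ht1⟩ := exists_isTranscendenceBasis_subset (R := Ω) (A := MvPolynomial κ Ω ⧸ M)
    (Set.range fun j : κ => Ideal.Quotient.mk M (X j))
  have hx := (hs1.1.map' hg₀inj).sumElim_comp ht1.1
  have hex : ∀ z : t ⊕ s, ∃ b : MvPolynomial (ι ⊕ κ) k ⧸ q,
      g b = Sum.elim (fun y : t => (y : MvPolynomial κ Ω ⧸ M))
        (algebraMap Ω (MvPolynomial κ Ω ⧸ M) ∘ (g₀ ∘ fun y : s => (y : MvPolynomial ι k ⧸ P₀))) z := by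
    rintro (y | y)
    · obtain ⟨j, hj⟩ := ht y.2
      refine ⟨Ideal.Quotient.mk q (X (Sum.inr j)), ?_⟩
      rw [hg, Sum.elim_inl, ← hj]
      simp [spec]
    · obtain ⟨p, hp⟩ := Ideal.Quotient.mk_surjective (y : MvPolynomial ι k ⧸ P₀)
      refine ⟨Ideal.Quotient.mk q (rename Sum.inl p), ?_⟩
      rw [hg, Sum.elim_inr, spec_rename_inl, Function.comp_apply, Function.comp_apply, ← hp, hg₀]
      rfl
  choose b hb using hex
  have hb' : AlgebraicIndependent k b := by
    rw [← g.algebraicIndependent_iff hginj]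
    have : g ∘ b = Sum.elim (fun y : t => (y : MvPolynomial κ Ω ⧸ M))
        (algebraMap Ω (MvPolynomial κ Ω ⧸ M) ∘ (g₀ ∘ fun y : s => (y : MvPolynomial ι k ⧸ P₀))) := funext hb
    rw [this]
    exact hx
  have hle := hb'.cardinalMk_le_trdeg
  rw [Cardinal.mk_sum, Cardinal.lift_id, Cardinal.lift_id, hs1.cardinalMk_eq_trdeg, ht1.cardinalMk_eq_trdeg, hD, hDq,
    hd₀] at hle
  have hle' : D + d₀ ≤ Dq := by exact_mod_cast hle
  have f2 : Nat.card (ι ⊕ κ) = Nat.card ι + Nat.card κ := Nat.card_sum
  have f3 : hq' ≤ h₀ + h := by omega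
  exact_mod_cast f3

/-- Evaluation after specialisation. -/
theorem eval_spec (v : ι → Ω) (w : κ → Ω) (f : MvPolynomial (ι ⊕ κ) k) :
    MvPolynomial.eval w (spec v f) = aeval (Sum.elim v w) f := by
  induction f using MvPolynomial.induction_on with
  | C a => simp [spec]
  | add p q hp hq => simp only [map_add, hp, hq]
  | mul_X p i hp =>
    rw [map_mul, map_mul, hp, map_mul, aeval_X]
    congr 1
    rcases i with i | j <;> simp [spec]

/-- The bound for the lines on a cone holds over every algebraically closed field. -/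
theorem lines_transfer [IsAlgClosed k] [IsAlgClosed Ω] {N : Type} [Finite N] {G : MvPolynomial N k} {d : ℕ}
    (hlin : ∀ v : N → k, v ≠ 0 → MvPolynomial.eval v G = 0 → Cd (lineSet G v) d) (v : N → Ω) (hv : v ≠ 0)
    (hGv : MvPolynomial.eval v (map (algebraMap k Ω) G) = 0) : Cd (lineSet (map (algebraMap k Ω) G) v) d := by
  have : Infinite Ω := IsAlgClosed.instInfinite
  rw [Cd, Ideal.height_eq_inf_minimalPrimes]
  refine le_iInf₂ fun M hM => ?_
  have hMp : M.IsPrime := hM.1.1
  obtain ⟨x₀, hx₀⟩ := K714.Codim.exists_mem_zeroLocus M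
  have hzero : (0 : N → Ω) ∈ zeroLocus Ω M := by
    have h1 := act_mem_of_minimalPrimes (fun _ : N => 1) (Y := lineSet (map (algebraMap k Ω) G) v)
      (fun s x hx u => by
        have h2 := hx (u * s)
        refine Eq.trans ?_ h2
        congr 1
        refine congrArg _ (funext fun i => ?_)
        simp only [act, pow_one]
        ring) hM 0 hx₀
    have h2 : act (fun _ : N => 1) (0 : Ω) x₀ = 0 := by
      funext i
      simp [act]
    rwa [h2] at h1
  set q : Ideal (MvPolynomial (N ⊕ N) k) := M.comap (spec (k := k) (κ := N) v).toRingHom with hqdef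
  have hq : q.IsPrime := Ideal.comap_isPrime _ _
  have hP : (RingHom.ker (aeval (R := k) v).toRingHom).IsPrime := RingHom.ker_isPrime _
  have hcomap := comap_spec_comap (k := k) v M
  -- a nonzero point over `k`
  obtain ⟨v₀, hv₀, hne⟩ : ∃ v₀ ∈ zeroLocus k (RingHom.ker (aeval (R := k) v).toRingHom), v₀ ≠ 0 := by
    by_contra hcon
    push Not at hcon
    apply hv
    funext i
    have h1 : (X i : MvPolynomial N k) ∈ RingHom.ker (aeval (R := k) v).toRingHom := by
      rw [← IsPrime.vanishingIdeal_zeroLocus (K := k) (RingHom.ker (aeval (R := k) v).toRingHom),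
        mem_vanishingIdeal_iff]
      intro y hy
      rw [hcon y hy]
      simp
    have h2 : aeval (R := k) v (X i) = 0 := RingHom.mem_ker.1 h1
    rw [aeval_X] at h2
    rw [h2]
    rfl
  have hG0 : MvPolynomial.eval v₀ G = 0 := by
    have h1 : G ∈ RingHom.ker (aeval (R := k) v).toRingHom := by
      rw [RingHom.mem_ker]
      change aeval v G = 0
      rw [← hGv, eval_map, aeval_def]
    have := (mem_zeroLocus_iff.1 hv₀) _ h1
    rwa [aeval_eq_eval] at this
  have hpt : Sum.elim v₀ (0 : N → k) ∈ zeroLocus k q := by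
    rw [mem_zeroLocus_iff]
    intro f hf
    have h1 : MvPolynomial.eval 0 (spec v f) = 0 := by
      have := (mem_zeroLocus_iff.1 hzero) _ (Ideal.mem_comap.1 hf)
      rwa [aeval_eq_eval] at this
    rw [eval_spec] at h1
    have h2 : aeval (Sum.elim X 0) f ∈ RingHom.ker (aeval (R := k) v).toRingHom := by
      rw [RingHom.mem_ker]
      change aeval v (aeval (Sum.elim X 0) f) = 0
      rw [← h1, ← AlgHom.comp_apply]
      refine DFunLike.congr_fun ?_ f
      ext i
      rcases i with i | j <;> simp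
    have h3 := (mem_zeroLocus_iff.1 hv₀) _ h2
    rw [← h3, ← AlgHom.comp_apply]
    refine DFunLike.congr_fun ?_ f
    ext i
    rcases i with i | j <;> simp
  have hfib : Cd {w' : N → k | Sum.elim v₀ w' ∈ zeroLocus k q} d := by
    refine cd_mono (Z := lineSet G v₀) ?_ (hlin v₀ hne hG0)
    intro w' hw' u
    have h1 : (aeval (fun i => X (Sum.inl i) + C u * X (Sum.inr i)) G : MvPolynomial (N ⊕ N) k) ∈ q := by
      rw [hqdef, Ideal.mem_comap]
      apply hM.1.2
      rw [mem_vanishingIdeal_iff]
      intro y hy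
      have h2 := hy (algebraMap k Ω u)
      rw [aeval_eq_eval]
      change MvPolynomial.eval y (spec v _) = 0
      rw [eval_spec, ← h2, eval_map, ← AlgHom.comp_apply, ← aeval_def]
      refine DFunLike.congr_fun ?_ G
      ext i
      simp
    have h2 := (mem_zeroLocus_iff.1 hw') _ h1
    rw [aeval_eq_eval] at h2
    have h3 := subst (MvPolynomial.eval (Sum.elim v₀ w')) (fun c => by simp)
      (fun i => X (Sum.inl i) + C u * X (Sum.inr i)) G
    rw [h3] at h2
    simpa using h2
  obtain ⟨D, h, -, -, hh, hs⟩ := exists_nat_dim M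
  obtain ⟨d₀, h₀, -, -, hh₀, hs₀⟩ := exists_nat_dim (RingHom.ker (aeval (R := k) v).toRingHom)
  have h1 := add_le_height q (v := v₀) (w := 0) hpt (c₁ := h₀) (c₂ := d) (by rw [hcomap, hh₀]) hfib
  have h2 := h1.trans (height_contract_le (k := k) v M)
  rw [hh₀, hh] at h2
  rw [hh]
  have h3 : h₀ + d ≤ h₀ + h := by exact_mod_cast h2
  exact_mod_cast (by omega : d ≤ h)

end transfer

section ring

variable {k : Type u} [Field k] {N : Type} {K : Type u} [Field K] (φ : k →+* K) (G : MvPolynomial N k) (a : N → K)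
  (e : ℕ)

/-- `G(a + Σ t^(j+1) X_j)`, a polynomial in `t`. -/
noncomputable def arcPoly : Polynomial (MvPolynomial (Fin e × N) K) :=
  eval₂ (Polynomial.C.comp (C.comp φ))
    (fun i => Polynomial.C (C (a i)) + ∑ j : Fin e, Polynomial.C (X (j, i)) * Polynomial.X ^ ((j : ℕ) + 1)) G

/-- The ideal of the scheme of arcs of length `e` on the cone `G = 0` through `a`. -/
noncomputable def arcIdeal : Ideal (MvPolynomial (Fin e × N) K) :=
  Ideal.span (Set.range fun m : ℕ => (arcPoly φ G a e).coeff m)

theorem eval_arcPoly (x : Fin e × N → K) (t : K) :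
    ((arcPoly φ G a e).map (MvPolynomial.eval x)).eval t =
      MvPolynomial.eval (fun i => a i + ∑ j : Fin e, t ^ ((j : ℕ) + 1) * x (j, i)) (map φ G) := by
  have h1 : ((arcPoly φ G a e).map (MvPolynomial.eval x)).eval t =
      ((Polynomial.evalRingHom t).comp (Polynomial.mapRingHom (MvPolynomial.eval x))) (arcPoly φ G a e) := rfl
  rw [h1, arcPoly, eval₂_comp_left, eval_map]
  congr 1
  · refine RingHom.ext fun c => ?_
    simp
  · funext i
    simp only [Function.comp_apply, RingHom.comp_apply, map_add, map_sum, map_mul, map_pow]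
    simp only [Polynomial.coe_mapRingHom, Polynomial.map_C, Polynomial.map_X, eval_C, eval_X,
      Polynomial.coe_evalRingHom, Polynomial.eval_C, Polynomial.eval_X]
    congr 1
    exact Finset.sum_congr rfl fun j _ => mul_comm _ _

theorem mem_arcSet {x : Fin e × N → K} (hx : x ∈ zeroLocus K (arcIdeal φ G a e)) :
    x ∈ arcSet (map φ G) a e := by
  intro t
  rw [← eval_arcPoly]
  have h : (arcPoly φ G a e).map (MvPolynomial.eval x) = 0 := by
    ext m
    rw [Polynomial.coeff_map, Polynomial.coeff_zero]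
    have := (mem_zeroLocus_iff.1 hx) _ (Ideal.subset_span ⟨m, rfl⟩)
    rwa [aeval_eq_eval] at this
  rw [h, Polynomial.eval_zero]

theorem isHomogeneous_map {d : ℕ} {G : MvPolynomial N k} (hG : G.IsHomogeneous d) : (map φ G).IsHomogeneous d :=
  hG.map φ

variable [Finite N]

/-- The codimension of the scheme of arcs, algebraically closed field. -/
theorem le_height_arcIdeal [IsAlgClosed k] [IsAlgClosed K] {d : ℕ} {G : MvPolynomial N k} (hG : G.IsHomogeneous d)
    (hlin : ∀ v : N → k, v ≠ 0 → MvPolynomial.eval v G = 0 → Cd (lineSet G v) d) (hd : 2 * d ≤ Nat.card N)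
    (ha : a ≠ 0) : ((d * e : ℕ) : ℕ∞) ≤ (arcIdeal φ G a e).height := by
  rw [← height_radical, ← vanishingIdeal_zeroLocus_eq_radical (K := K)]
  let _ : Algebra k K := φ.toAlgebra
  by_cases h0 : MvPolynomial.eval a (map φ G) = 0
  · exact cd_mono (fun x hx => mem_arcSet φ G a e hx)
      (main (hG.map φ) (fun v hv hv0 => lines_transfer (k := k) (Ω := K) hlin v hv hv0) hd ha h0 e)
  · have hempty : zeroLocus K (arcIdeal φ G a e) = ∅ := by
      ext x
      simp only [Set.mem_empty_iff_false, iff_false]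
      intro hx
      apply h0
      have := mem_arcSet φ G a e hx 0
      simpa using this
    rw [hempty]
    have h2 : vanishingIdeal (σ := Fin e × N) K (∅ : Set (Fin e × N → K)) = ⊤ := by
      rw [Ideal.eq_top_iff_one, mem_vanishingIdeal_iff]
      intro x hx
      exact hx.elim
    rw [h2, Ideal.height_top]
    exact le_top

attribute [local instance] MvPolynomial.algebraMvPolynomial in
/-- Extension of the ground field. -/
theorem le_height_of_map {σ : Type} (L : Type u) [Field L] [Algebra K L] [Algebra.IsAlgebraic K L]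
    (I : Ideal (MvPolynomial σ K)) {c : ℕ∞} (hc : c ≤ (I.map (map (algebraMap K L))).height) : c ≤ I.height := by
  rw [K714.Codim.le_height_iff]
  intro P hP hle
  have hint : Algebra.IsIntegral K L := inferInstance
  have h1 : Algebra.IsIntegral (MvPolynomial σ K) (MvPolynomial σ L) := inferInstance
  have h2 : FaithfulSMul (MvPolynomial σ K) (MvPolynomial σ L) :=
    (faithfulSMul_iff_algebraMap_injective _ _).2 (map_injective _ (algebraMap K L).injective)
  obtain ⟨⟨Q, hQ, hQo⟩⟩ := (inferInstance : Nonempty (Ideal.primesOver P (MvPolynomial σ L)))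
  have h3 := height_under_eq (R := MvPolynomial σ K) Q
  have h4 : Q.under (MvPolynomial σ K) = P := hQo.over.symm
  rw [h4] at h3
  rw [h3]
  refine hc.trans (Ideal.height_mono ?_)
  rw [Ideal.map_le_iff_le_comap]
  refine hle.trans ?_
  rw [← h4]
  exact le_rfl

omit [Finite N] in
theorem arcPoly_map {L : Type u} [Field L] (ψ : K →+* L) :
    arcPoly (ψ.comp φ) G (fun i => ψ (a i)) e = (arcPoly φ G a e).map (map ψ) := by
  rw [← Polynomial.coe_mapRingHom, arcPoly, arcPoly, eval₂_comp_left]
  congr 1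
  · refine RingHom.ext fun c => ?_
    simp
  · funext i
    simp only [Function.comp_apply, map_add, map_sum, map_mul, map_pow]
    simp only [Polynomial.coe_mapRingHom, Polynomial.map_C, Polynomial.map_X, map_C, map_X]

omit [Finite N] in
theorem arcIdeal_map {L : Type u} [Field L] (ψ : K →+* L) :
    arcIdeal (ψ.comp φ) G (fun i => ψ (a i)) e = (arcIdeal φ G a e).map (map ψ) := by
  rw [arcIdeal, arcIdeal, Ideal.map_span, ← Set.range_comp, arcPoly_map]
  congr 2
  funext m
  rw [Polynomial.coeff_map]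
  rfl

/-- The codimension of the scheme of arcs, any field. -/
theorem le_height_arcIdeal' [IsAlgClosed k] {d : ℕ} {G : MvPolynomial N k} (hG : G.IsHomogeneous d)
    (hlin : ∀ v : N → k, v ≠ 0 → MvPolynomial.eval v G = 0 → Cd (lineSet G v) d) (hd : 2 * d ≤ Nat.card N)
    (ha : a ≠ 0) : ((d * e : ℕ) : ℕ∞) ≤ (arcIdeal φ G a e).height := by
  apply le_height_of_map (AlgebraicClosure K)
  rw [← arcIdeal_map]
  refine le_height_arcIdeal _ _ _ hG hlin hd fun h => ha ?_
  funext i
  have := congrFun h i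
  simpa using this

/-- Height and dimension. -/
theorem ringKrullDim_quot_le {σ : Type} [Finite σ] (I : Ideal (MvPolynomial σ K)) {c D : ℕ}
    (hc : (c : ℕ∞) ≤ I.height) (h : Nat.card σ ≤ D + c) : ringKrullDim (MvPolynomial σ K ⧸ I) ≤ (D : WithBot ℕ∞) := by
  rw [ringKrullDim_le_iff_height_le]
  intro p hp
  have h1 := height_add_le (Ideal.Quotient.mk I) Ideal.Quotient.mk_surjective (by rw [Ideal.mk_ker]) hc p
  have h2 : p.height ≠ ⊤ := by
    intro h3
    rw [h3, top_add] at h1
    exact absurd h1 (by simp)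
  obtain ⟨m, hm⟩ := ENat.ne_top_iff_exists.mp h2
  rw [← hm] at h1 ⊢
  have h4 : m + c ≤ Nat.card σ := by exact_mod_cast h1
  have h5 : m ≤ D := by omega
  exact_mod_cast h5

/-- The lines: from dimension to codimension. -/
theorem cd_lineSet [Infinite k] {n d : ℕ} (hdn : d ≤ n + 1) {G : MvPolynomial (Fin (n + 1)) k} {v : Fin (n + 1) → k}
    (h : ringKrullDim (MvPolynomial (Fin (n + 1)) k ⧸ K948.FanoConeDim.lineIdeal (RingHom.id k) G v) ≤
      ((n + 1 - d : ℕ) : WithBot ℕ∞)) : Cd (lineSet G v) d := by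
  have h1 : (d : ℕ∞) ≤ (K948.FanoConeDim.lineIdeal (RingHom.id k) G v).height := by
    rw [K714.Codim.le_height_iff]
    intro P hP hle
    obtain ⟨D, h', hD, -, hh, hs⟩ := exists_nat_dim P
    have h2 : ringKrullDim (MvPolynomial (Fin (n + 1)) k ⧸ P) ≤
        ringKrullDim (MvPolynomial (Fin (n + 1)) k ⧸ K948.FanoConeDim.lineIdeal (RingHom.id k) G v) :=
      ringKrullDim_le_of_surjective (Ideal.Quotient.factor hle) (Ideal.Quotient.factor_surjective hle)
    have h3 := h2.trans h
    rw [hD] at h3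
    rw [hh]
    have h4 : D ≤ n + 1 - d := by exact_mod_cast h3
    rw [Nat.card_eq_fintype_card, Fintype.card_fin] at hs
    exact_mod_cast (by omega : d ≤ h')
  refine h1.trans (Ideal.height_mono ?_)
  rw [K948.FanoConeDim.lineIdeal, Ideal.span_le]
  rintro _ ⟨m, rfl⟩
  rw [SetLike.mem_coe, mem_vanishingIdeal_iff]
  intro y hy
  rw [aeval_eq_eval]
  have h5 : (K948.FanoConeDim.alongLine (C.comp (RingHom.id k)) G (fun i => C (v i))
      (X : Fin (n + 1) → MvPolynomial (Fin (n + 1)) k)).map (MvPolynomial.eval y) = 0 := by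
    refine Polynomial.funext fun t => ?_
    rw [Polynomial.eval_zero, ← hy t, K948.FanoConeDim.alongLine, ← Polynomial.coe_mapRingHom, eval₂_comp_left,
      ← Polynomial.coe_evalRingHom, eval₂_comp_left]
    change _ = eval₂ (RingHom.id k) (fun i => v i + t * y i) G
    congr 1
    · refine RingHom.ext fun c => ?_
      simp
    · funext i
      simp [mul_comm t]
  have h6 := congrArg (fun q => Polynomial.coeff q m) h5
  simpa using h6

end ring

/-- **Theorem.**  The coordinate ring of the scheme of arcs of length `e` through `a ≠ 0` has dimension at most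
`e (n + 1 - d)`, over every field containing `k`. -/
theorem ringKrullDim_arc_le {k : Type u} [Field k] [IsAlgClosed k] {n d : ℕ} (hdn : 2 * d ≤ n + 1)
    {G : MvPolynomial (Fin (n + 1)) k} (hG : G.IsHomogeneous d)
    (hdim : ∀ v : Fin (n + 1) → k, v ≠ 0 → MvPolynomial.eval v G = 0 →
      ringKrullDim (MvPolynomial (Fin (n + 1)) k ⧸ K948.FanoConeDim.lineIdeal (RingHom.id k) G v) ≤
        ((n + 1 - d : ℕ) : WithBot ℕ∞))
    {K : Type u} [Field K] (φ : k →+* K) (a : Fin (n + 1) → K) (ha : a ≠ 0) (e : ℕ) :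
    ringKrullDim (MvPolynomial (Fin e × Fin (n + 1)) K ⧸ arcIdeal φ G a e) ≤
      ((e * (n + 1 - d) : ℕ) : WithBot ℕ∞) := by
  have : Infinite k := IsAlgClosed.instInfinite
  refine ringKrullDim_quot_le _ (le_height_arcIdeal' φ a e hG (fun v hv hv0 => cd_lineSet (by omega) (hdim v hv hv0))
    (by rwa [Nat.card_eq_fintype_card, Fintype.card_fin]) ha) ?_
  rw [Nat.card_prod, Nat.card_eq_fintype_card, Nat.card_eq_fintype_card, Fintype.card_fin, Fintype.card_fin,
    mul_comm d e, ← mul_add]
  refine Nat.mul_le_mul_left e ?_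
  omega

/-- The same, for a general form. -/
theorem isGeneric_arc {k : Type u} [Field k] [IsAlgClosed k] {n d : ℕ} (hd : 1 ≤ d) (hdn : 2 * d ≤ n + 1)
    (hdn' : d + 3 ≤ n) :
    LefPen.IsGeneric k {G : LefPen.Form n k d | ∀ (K : Type u) [Field K] (φ : k →+* K) (a : Fin (n + 1) → K),
      a ≠ 0 → ∀ e : ℕ, ringKrullDim (MvPolynomial (Fin e × Fin (n + 1)) K ⧸ arcIdeal φ G.1 a e) ≤
        ((e * (n + 1 - d) : ℕ) : WithBot ℕ∞)} := by
  obtain ⟨f, hf, hf0, h⟩ := K948.FanoConeDim.isGeneric (k := k) (n := n) hd hdn'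
  exact ⟨f, hf, hf0, fun G hG K _ φ a ha e =>
    ringKrullDim_arc_le hdn ((mem_homogeneousSubmodule _ _).1 G.2) (h G hG) φ a ha e⟩

end K479.ArcRing
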